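import Cfsg.Agent.H37.Twist.F4Inv.Classes
import Cfsg.Agent.H37.Tits.Minimal
import Cfsg.Agent.H51.CentWord
import Cfsg.Agent.H56.TwAut.TwBasic

/-!
`²F₄(q)`: the Bruhat cells meeting the centralisers of the two kinds of involutions.
-/
set_option autoImplicit false
set_option maxRecDepth 100000
set_option linter.unusedSectionVars false

namespace Cfsg.Agent.H37.Twist.F4Inv

open Cfsg.Lie Cfsg.Agent.H37 Cfsg.Agent.H37.RootSys Cfsg.Agent.H37.NormalForm
  Cfsg.Agent.H37.Twist Cfsg.Agent.H37.Twist.F4 Cfsg.Agent.H37.Twist.Collect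
open Cfsg.Agent.H56.TwAut (lift lift_mul lift_inv lift_iso lift_injective lift_n mem_U mem_H mem_Uw)

variable {K : Type*} [Field K] [Fintype K] [CharP K 2] {φ : K →+* K} {m : ℕ}

/-- The roots above the second representative. -/
def six : List ℕ := [39, 40, 44, 45, 46, 47]

/-- The conjugates of a word by `U` from both sides have their support in `L`, with head `k`. -/
def conjB (w : Word) (k : ℕ) (L : List ℕ) : Bool :=
  ltB w && collectsB chevF4 full (sW full ++ w ++ (sW full).reverse) &&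
  suppB (collect chevF4 (sW full ++ w ++ (sW full).reverse)) (k :: L) &&
  collectsB chevF4 full ((sW full).reverse ++ w ++ sW full) &&
  suppB (collect chevF4 ((sW full).reverse ++ w ++ sW full)) (k :: L) &&
  decide (coordP (collect chevF4 ((sW full).reverse ++ w ++ sW full)) k = [[]]) &&
  decide (Lists (k :: L)) && (L.all fun r => decide (k < r)) && H51.CW.closedB chevF4 (k :: L)

theorem conjB_C3 : conjB C3w 44 [47] = true := by decide +kernel

theorem conjB_X4 : conjB X4w 39 [40, 44, 45, 46, 47] = true := by decide +kernel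

theorem ltB_full : ltB (sW full) = true := by decide +kernel

/-- Conjugates by `U` of a checked word. -/
theorem conj_spec {w : Word} {k : ℕ} {L : List ℕ} (h : conjB w k L = true)
    {y : ↥(chevF4.group K)} (hy : ∀ v : ℕ → K, wG (QD K) (evw v w) = y) (t : ℕ → K) :
    el t * y * (el t)⁻¹ ∈ XS (QD K).sys.x (↑(k :: L).toFinset : Set ℕ) ∧
      ∃ p ∈ XS (QD K).sys.x {r | r ∈ posSet chevF4 ∧ k < r},
        (el t)⁻¹ * y * el t = (QD K).sys.x k 1 * p := by
  simp only [conjB, Bool.and_eq_true, decide_eq_true_eq, List.all_eq_true] at h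
  obtain ⟨⟨⟨⟨⟨⟨⟨⟨hl, hc1⟩, hs1⟩, hc2⟩, hs2⟩, hk⟩, hL⟩, hlt⟩, hcl⟩ := h
  set v : ℕ → K := env (RingHom.id K) t 0
  have hsW : wG (QD K) (evw v (sW full)) = el t :=
    wG_sW (fun r hr => (mem_full.1 hr).2) t 0
  have hinv : wG (QD K) (evw v (sW full).reverse) = (el t)⁻¹ := by
    rw [← wG_inv v ltB_full, hsW]
  constructor
  · have e : el t * y * (el t)⁻¹ = el fun r => ev v
        (coordP (collect chevF4 (sW full ++ w ++ (sW full).reverse)) r) := by
      rw [← wG_coords hc1, evw_append, evw_append, wG_append, wG_append, hsW, hinv, hy]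
    rw [e, el_eq hL (supp_coord hs1 v)]
    exact xprod_mem (QD K) _
  · set t' : ℕ → K := fun r => ev v (coordP (collect chevF4 ((sW full).reverse ++ w ++ sW full)) r)
    refine ⟨xprod (QD K) L t', XS_mono ?_ (xprod_mem (QD K) t'), ?_⟩
    · intro r hr
      rw [Finset.mem_coe, List.mem_toFinset] at hr
      refine ⟨mem_posSet.2 ⟨hL.lt (List.mem_cons_of_mem _ hr), ?_⟩, hlt r hr⟩
      have hk24 : 24 ≤ k := by
        have : k ∈ full.filter fun r => decide (r ∈ k :: L) := by
          rw [hL]; exact List.mem_cons_self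
        exact (mem_full.1 (List.mem_filter.1 this).1).1
      have := hlt r hr
      show 24 ≤ r
      omega
    · have e : (el t)⁻¹ * y * el t = el t' := by
        rw [← wG_coords hc2, evw_append, evw_append, wG_append, wG_append, hsW, hinv, hy]
      rw [e, el_eq hL (supp_coord hs2 v), xprod_cons]
      congr 1
      show (QD K).sys.x k (t' k) = _
      congr 1
      show ev v (coordP _ k) = 1
      rw [hk]
      simp [ev, ev1]

variable (hφ : ∀ t, φ t = t ^ 2 ^ m) (hK : Fintype.card K = 2 ^ (2 * m + 1))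
include hφ hK

/-- If `g` moves a checked element to a checked element, the cell of `g` moves a root to the head. -/
theorem head_image {w1 w2 : Word} {k1 k2 : ℕ} {L1 L2 : List ℕ} (h1 : conjB w1 k1 L1 = true)
    (h2 : conjB w2 k2 L2 = true) {x y : ↥(chevF4.group K)}
    (hx : ∀ v : ℕ → K, wG (QD K) (evw v w1) = x) (hy : ∀ v : ℕ → K, wG (QD K) (evw v w2) = y)
    (g : ↥(model hφ hK).T) (e : lift (model hφ hK) g * x * (lift (model hφ hK) g)⁻¹ = y) :
    ∃ u ∈ (model hφ hK).tw.U, ∃ h ∈ (model hφ hK).tw.H, ∃ a,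
      ∃ v ∈ (model hφ hK).tw.Uw a, g = u * h * (model hφ hK).tw.n a * v ∧
        ∃ r ∈ k1 :: L1, Weyl.certF4.act (om a) r = k2 := by
  obtain ⟨u, hu, h, hh, a, v, hv, rfl⟩ := (model hφ hK).tw.exists_eq g
  refine ⟨u, hu, h, hh, a, v, hv, rfl, ?_⟩
  obtain ⟨k, hk, en⟩ := lift_n (model hφ hK) a
  obtain ⟨tu, hu'⟩ := exists_el (show lift (model hφ hK) u ∈ (QD K).sys.U from (mem_U _).1 hu)
  obtain ⟨tv, hv'⟩ := exists_el
    ((QD K).sys.Uw_le _ ((mem_Uw (model hφ hK)).1 hv))
  have hh' : lift (model hφ hK) h ∈ (QD K).sys.H := (mem_H _).1 hh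
  rw [lift_mul, lift_mul, lift_mul, en, hu', hv'] at e
  obtain ⟨hx1, -⟩ := conj_spec h1 hx tv
  obtain ⟨-, p, hp, hy1⟩ := conj_spec h2 hy tu
  have hkk : k2 < 48 ∧ 24 ≤ k2 := by
    simp only [conjB, Bool.and_eq_true, decide_eq_true_eq] at h2
    have hm : k2 ∈ full.filter fun r => decide (r ∈ k2 :: L2) := by
      rw [h2.1.1.2]; exact List.mem_cons_self
    exact ⟨(mem_full.1 (List.mem_filter.1 hm).1).2, (mem_full.1 (List.mem_filter.1 hm).1).1⟩
  have hcl : (QD K).sys.toUnip.Closed (k1 :: L1).toFinset := by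
    simp only [conjB, Bool.and_eq_true] at h1
    exact H51.CW.closed_of_closedB (QD K) h1.2
  obtain ⟨r, hr, -, himg⟩ := H51.exists_preimage (QD K) hcl ((fold φ).ι a) (mul_mem hh' hk) hx1
    (show k2 < chevF4.nroots from hkk.1) (show chevF4.nroots / 2 ≤ k2 from hkk.2)
    (t := 1) one_ne_zero hp (by
      rw [← hy1, ← e]
      show _ = (el tu)⁻¹ * (el tu * lift (model hφ hK) h * (k * (QD K).sys.rep _) * el tv * x *
        (el tu * lift (model hφ hK) h * (k * (QD K).sys.rep _) * el tv)⁻¹) * el tu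
      group)
  refine ⟨r, List.mem_toFinset.1 hr, ?_⟩
  have hr48 : r < 48 := by
    simp only [conjB, Bool.and_eq_true, decide_eq_true_eq] at h1
    exact h1.1.1.2.lt (List.mem_toFinset.1 hr)
  rw [H51.img_of_lt (QD K) _ (show r < chevF4.nroots from hr48)] at himg
  rw [← himg]
  exact ((QD K).X.good.hom_wOf_val
    (show ∀ i ∈ om a, i < 4 from (by decide +kernel : ∀ a, ∀ i ∈ om a, i < 4) a) ⟨r, hr48⟩).symm

/-- The two kinds of involutions are not conjugate. -/
theorem not_conj (g : ↥(model hφ hK).T) :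
    lift (model hφ hK) g * el (indic [44, 47]) * (lift (model hφ hK) g)⁻¹ ≠ el (indic [39, 45]) := by
  intro e
  obtain ⟨u, -, h, -, a, v, -, -, r, hr, hra⟩ := head_image hφ hK conjB_C3 conjB_X4 C3_eq X4_eq g e
  exact (by decide +kernel : ∀ a : DihedralGroup 8, ∀ r ∈ [44, 47],
    Weyl.certF4.act (om a) r ≠ 39) a r hr hra

/-- The centraliser of the first kind lies in a minimal parabolic subgroup. -/
theorem cent_Z (g : ↥(model hφ hK).T)
    (e : lift (model hφ hK) g * el (indic [44, 47]) * (lift (model hφ hK) g)⁻¹ = el (indic [44, 47])) :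
    g ∈ (model hφ hK).tw.minPar (Set.mem_range_self (1 : Fin 2)) := by
  obtain ⟨u, hu, h, hh, a, v, hv, rfl, r, hr, hra⟩ :=
    head_image hφ hK conjB_C3 conjB_C3 C3_eq C3_eq g e
  exact (model hφ hK).tw.nf_mem_minPar _ hu hh hv ((by decide +kernel : ∀ a : DihedralGroup 8,
    ∀ r ∈ [44, 47], Weyl.certF4.act (om a) r = 44 → a = 1 ∨ a = gens 1) a r hr hra)

/-- The centraliser of the second kind lies in a minimal parabolic subgroup. -/
theorem cent_P (g : ↥(model hφ hK).T)
    (e : lift (model hφ hK) g * el (indic [39, 45]) * (lift (model hφ hK) g)⁻¹ = el (indic [39, 45])) :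
    g ∈ (model hφ hK).tw.minPar (Set.mem_range_self (0 : Fin 2)) := by
  obtain ⟨u, hu, h, hh, a, v, hv, rfl, r, hr, hra⟩ :=
    head_image hφ hK conjB_X4 conjB_X4 X4_eq X4_eq g e
  exact (model hφ hK).tw.nf_mem_minPar _ hu hh hv ((by decide +kernel : ∀ a : DihedralGroup 8,
    ∀ r ∈ six, Weyl.certF4.act (om a) r = 39 → a = 1 ∨ a = gens 0) a r hr hra)

end Cfsg.Agent.H37.Twist.F4Inv
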