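import Cfsg.Agent.H37.Twist.F4Inv.Reps

/-!
`²F₄(q)`: every fixed involution of `U` is conjugate to one of the two representatives.
-/
set_option autoImplicit false
set_option maxRecDepth 100000
set_option linter.unusedSectionVars false

namespace Cfsg.Agent.H37.Twist.F4Inv

open Cfsg.Lie Cfsg.Agent.H37 Cfsg.Agent.H37.RootSys Cfsg.Agent.H37.NormalForm
  Cfsg.Agent.H37.Twist Cfsg.Agent.H37.Twist.F4 Cfsg.Agent.H37.Twist.Collect

variable {K : Type*} [Field K] [Fintype K] [CharP K 2] {φ : K →+* K} {m : ℕ}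

/-- The eight classes of roots permuted by the two fundamental words. -/
def clsL : List (List ℕ) :=
  [[24, 33], [26, 34, 36, 42], [38, 43], [29, 41, 44, 47], [39, 45], [31, 35, 40, 46], [32, 37],
    [25, 27, 28, 30]]

/-- A union of classes, in increasing order. -/
def CS (ks : List ℕ) : List ℕ :=
  full.filter fun r => decide (r ∈ ks.flatMap fun k => clsL.getD k [])

/-- Conjugate to a representative. -/
def Done (φ : K →+* K) (t : ℕ → K) : Prop := Cj φ (el t) repZ ∨ Cj φ (el t) repP

theorem Done.of_cj {t t' : ℕ → K} (h : Cj φ (el t) (el t')) (h' : Done φ t') : Done φ t :=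
  h'.imp h.trans h.trans

theorem mul_zero_left {a b : K} (h : a * b = 0) (ha : a ≠ 0) : b = 0 :=
  (mul_eq_zero.1 h).resolve_left ha

theorem frob_ne {a : K} (ha : a ≠ 0) (r : ℕ) : φ a ^ Isog.dataF4.lm r ≠ 0 :=
  pow_ne_zero _ ((map_ne_zero φ).2 ha)

theorem frob_zero {a : K} (ha : a = 0) {r : ℕ} (hr : Isog.dataF4.lm r ≠ 0) :
    φ a ^ Isog.dataF4.lm r = 0 := by rw [ha, map_zero, zero_pow hr]

theorem lm_ne : ∀ r ∈ full, Isog.dataF4.lm r ≠ 0 := by decide +kernel

/-- A coordinate of the square. -/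
theorem sq_val {S : List ℕ} (hS : Lists S) {t : ℕ → K} (hf : Fx φ t) (hs : Supp S t) {r : ℕ}
    {p : Poly} (hc : collectsB chevF4 full (sW S ++ sW S) = true) (hr : r ∈ full)
    (hp : coordP (collect chevF4 (sW S ++ sW S)) r = p) : ev (env φ t 0) p = 0 :=
  hp ▸ sq_coord hS hs hc hf.sq φ r hr

/-- A coordinate under the endomorphism. -/
theorem fix_val {S : List ℕ} (hS : Lists S) {t : ℕ → K} (hf : Fx φ t) (hs : Supp S t) {r : ℕ}
    {p : Poly} (hc : collectsB chevF4 full (fW S) = true) (hr : r ∈ full)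
    (hp : coordP (collect chevF4 (fW S)) r = p) : t r = ev (env φ t 0) p :=
  hp ▸ fix_coord hS hs hc hf.fix r hr

theorem Supp.zero {S : List ℕ} {t : ℕ → K} (h : Supp S t) (L : List ℕ)
    (hz : ∀ r ∈ L, t r = 0) : Supp (S.filter fun r => decide (r ∉ L)) t :=
  h.filter fun r _ hr => hz r (by simpa using hr)

variable (hφ : ∀ t, φ t = t ^ 2 ^ m) (hK : Fintype.card K = 2 ^ (2 * m + 1))
include hφ hK

/-- A fixed involution without the last class and with the first coordinate non-zero. -/
theorem caseA {t : ℕ → K} (hf : Fx φ t) (hs : Supp (CS [0, 1, 2, 3, 4, 5, 6]) t) (h24 : t 24 ≠ 0) :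
    Cj φ (el t) repP := by
  have g7 := fixW_T7 hφ hK
  have c7 := fixW_C7 hφ hK
  have p0 := fixW_P0 hφ hK
  have gX1t := g7.rotA hφ hK (by decide)
  have gX5t := gX1t.rotB hφ hK (by decide)
  have h33 : t 33 ≠ 0 := by
    rw [fix_val (by decide +kernel) hf hs (r := 33) (p := [[124]]) (by decide +kernel) (by decide)
      (by decide +kernel)]
    simpa [ev, ev1, env] using frob_ne (φ := φ) h24 24
  obtain ⟨t1, j1, f1, s1, k1⟩ := step (S := CS [0, 1, 2, 3, 4, 5, 6]) (g := T7) (k := 26) (q := 24)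
    (k' := 34) (keep := [24, 33])
    (S' := [24, 29, 31, 32, 33, 35, 36, 37, 38, 39, 40, 41, 42, 43, 44, 45, 46, 47])
    (by decide +kernel) g7 hf hs h24
  obtain ⟨t2, j2, f2, s2, k2⟩ := step (g := C7) (k := 35) (q := 33) (k' := 31) (keep := [24, 33])
    (S' := [24, 29, 32, 33, 36, 37, 38, 39, 40, 41, 42, 43, 44, 45, 46, 47])
    (by decide +kernel) c7 f1 s1 (by rw [k1 33 (by simp)]; exact h33)
  have a24 : t2 24 ≠ 0 := by rw [k2 24 (by simp), k1 24 (by simp)]; exact h24
  have a33 : t2 33 ≠ 0 := by rw [k2 33 (by simp), k1 33 (by simp)]; exact h33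
  set S2 : List ℕ := [24, 29, 32, 33, 36, 37, 38, 39, 40, 41, 42, 43, 44, 45, 46, 47]
  have hS2 : Lists S2 := by decide
  have hc2 : collectsB chevF4 full (sW S2 ++ sW S2) = true := by decide +kernel
  have z37 : t2 37 = 0 := by
    have h := sq_val hS2 f2 s2 (r := 38) (p := [[24, 37]]) hc2 (by decide) (by decide +kernel)
    exact mul_zero_left (by simpa [ev, ev1, env] using h) a24
  have z29 : t2 29 = 0 := by
    have h := sq_val hS2 f2 s2 (r := 36) (p := [[29, 33]]) hc2 (by decide) (by decide +kernel)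
    exact mul_zero_left (by simpa [ev, ev1, env, mul_comm] using h) a33
  have z32 : t2 32 = 0 := by
    have h := sq_val hS2 f2 s2 (r := 39) (p := [[32, 33]]) hc2 (by decide) (by decide +kernel)
    exact mul_zero_left (by simpa [ev, ev1, env, mul_comm] using h) a33
  have z41 : t2 41 = 0 := by
    have h := sq_val hS2 f2 s2 (r := 42) (p := [[24, 41]]) hc2 (by decide) (by decide +kernel)
    exact mul_zero_left (by simpa [ev, ev1, env] using h) a24
  have z40 : t2 40 = 0 := by
    have h := sq_val hS2 f2 s2 (r := 44) (p := [[36, 37], [29, 33, 37], [33, 40], [29, 41]]) hc2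
      (by decide) (by decide +kernel)
    exact mul_zero_left (by simpa [ev, ev1, env, z37, z29] using h) a33
  have z46 : t2 46 = 0 := by
    have h := sq_val hS2 f2 s2 (r := 47) (p := [[24, 32, 41], [32, 42], [29, 29, 41], [24, 46]]) hc2
      (by decide) (by decide +kernel)
    exact mul_zero_left (by simpa [ev, ev1, env, z32, z29] using h) a24
  have s3 : Supp [24, 33, 36, 38, 39, 42, 43, 44, 45, 47] t2 :=
    s2.zero [37, 29, 32, 41, 40, 46] (by simp [z37, z29, z32, z41, z40, z46])
  obtain ⟨t4, j4, f4, s4, k4⟩ := step (g := rotW wB P0) (k := 39) (q := 33) (k' := 45)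
    (keep := [24, 33]) (S' := [24, 33, 36, 38, 42, 43, 44, 47])
    (by decide +kernel) (p0.rotB hφ hK (by decide)) f2 s3 a33
  obtain ⟨t5, j5, f5, s5, k5⟩ := step (g := rotW wB (rotW wA T7)) (k := 38) (q := 33) (k' := 43)
    (keep := [24, 33]) (S' := [24, 33, 36, 42, 44, 47])
    (by decide +kernel) gX5t f4 s4 (by rw [k4 33 (by simp)]; exact a33)
  obtain ⟨t6, j6, f6, s6, k6⟩ := step (g := rotW wA (rotW wB (rotW wA T7))) (k := 42) (q := 24)
    (k' := 36) (keep := [24, 33]) (S' := [24, 33, 44, 47])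
    (by decide +kernel) (gX5t.rotA hφ hK (by decide)) f5 s5
    (by rw [k5 24 (by simp), k4 24 (by simp)]; exact a24)
  obtain ⟨t7, j7, f7, s7, k7⟩ := step (g := rotW wB (rotW wA C7)) (k := 44) (q := 33) (k' := 47)
    (keep := [24, 33]) (S' := [24, 33])
    (by decide +kernel) ((c7.rotA hφ hK (by decide)).rotB hφ hK (by decide)) f6 s6
    (by rw [k6 33 (by simp), k5 33 (by simp), k4 33 (by simp)]; exact a33)
  refine ((((((j1.trans j2).trans j4).trans j5).trans j6).trans j7)).trans
    (cj_P hφ hK f7 s7 ?_)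
  rw [k7 24 (by simp), k6 24 (by simp), k5 24 (by simp), k4 24 (by simp)]
  exact a24

/-- A fixed involution with a non-zero coordinate at the centre of the last class. -/
theorem caseB {t : ℕ → K} (hf : Fx φ t) (hs : Supp (full.filter fun r => decide (r ∉ [25, 27])) t)
    (h28 : t 28 ≠ 0) : Done φ t := by
  set S := full.filter fun r => decide (r ∉ [25, 27])
  have hS : Lists S := by decide +kernel
  have hc : collectsB chevF4 full (sW S ++ sW S) = true := by decide +kernel
  have hcf : collectsB chevF4 full (fW S) = true := by decide +kernel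
  have h30 : t 30 ≠ 0 := by
    rw [fix_val hS hf hs (r := 30) (p := [[128]]) hcf (by decide) (by decide +kernel)]
    simpa [ev, ev1, env] using frob_ne (φ := φ) h28 28
  have z33 : t 33 = 0 := by
    have h := sq_val hS hf hs (r := 35) (p := [[28, 33]]) hc (by decide) (by decide +kernel)
    exact mul_zero_left (by simpa [ev, ev1, env] using h) h28
  have z24 : t 24 = 0 := by
    rw [fix_val hS hf hs (r := 24) (p := [[133]]) hcf (by decide) (by decide +kernel)]
    simpa [ev, ev1, env] using frob_zero (φ := φ) z33 (lm_ne 33 (by decide))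
  have z34 : t 34 = 0 := by
    have h := sq_val hS hf hs (r := 37) (p := [[30, 33], [28, 34]]) hc (by decide) (by decide +kernel)
    exact mul_zero_left (by simpa [ev, ev1, env, z33] using h) h28
  have z26 : t 26 = 0 := by
    rw [fix_val hS hf hs (r := 26) (p := [[134]]) hcf (by decide) (by decide +kernel)]
    simpa [ev, ev1, env] using frob_zero (φ := φ) z34 (lm_ne 34 (by decide))
  have s0 : Supp [28, 29, 30, 31, 32, 35, 36, 37, 38, 39, 40, 41, 42, 43, 44, 45, 46, 47] t :=
    hs.zero [24, 33, 26, 34] (by simp [z33, z24, z34, z26])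
  have g7 := fixW_T7 hφ hK
  have c7 := fixW_C7 hφ hK
  have p0 := fixW_P0 hφ hK
  obtain ⟨t1, j1, f1, s1, k1⟩ := step (g := P0) (k := 31) (q := 30) (k' := 35) (keep := [28, 30])
    (S' := [28, 29, 30, 32, 36, 37, 38, 39, 40, 41, 42, 43, 44, 45, 46, 47])
    (by decide +kernel) p0 hf s0 h30
  obtain ⟨t2, j2, f2, s2, k2⟩ := step (g := rotW wA T7) (k := 32) (q := 30) (k' := 37)
    (keep := [28, 30]) (S' := [28, 29, 30, 36, 38, 39, 40, 41, 42, 43, 44, 45, 46, 47])
    (by decide +kernel) (g7.rotA hφ hK (by decide)) f1 s1 (by rw [k1 30 (by simp)]; exact h30)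
  obtain ⟨t3, j3, f3, s3, k3⟩ := step (g := rotW wA C7) (k := 39) (q := 28) (k' := 45)
    (keep := [28, 30]) (S' := [28, 29, 30, 36, 38, 40, 41, 42, 43, 44, 46, 47])
    (by decide +kernel) (c7.rotA hφ hK (by decide)) f2 s2
    (by rw [k2 28 (by simp), k1 28 (by simp)]; exact h28)
  obtain ⟨t4, j4, f4, s4, k4⟩ := step (g := rotW wA (rotW wB P0)) (k := 46) (q := 30) (k' := 40)
    (keep := [28, 30]) (S' := [28, 29, 30, 36, 38, 41, 42, 43, 44, 47])
    (by decide +kernel) ((p0.rotB hφ hK (by decide)).rotA hφ hK (by decide)) f3 s3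
    (by rw [k3 30 (by simp), k2 30 (by simp), k1 30 (by simp)]; exact h30)
  have a28 : t4 28 ≠ 0 := by
    rw [k4 28 (by simp), k3 28 (by simp), k2 28 (by simp), k1 28 (by simp)]; exact h28
  set S4 : List ℕ := [28, 29, 30, 36, 38, 41, 42, 43, 44, 47]
  have hS4 : Lists S4 := by decide
  have hc4 : collectsB chevF4 full (sW S4 ++ sW S4) = true := by decide +kernel
  have hcf4 : collectsB chevF4 full (fW S4) = true := by decide +kernel
  have z36 : t4 36 = 0 := by
    have h := sq_val hS4 f4 s4 (r := 39) (p := [[28, 36]]) hc4 (by decide) (by decide +kernel)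
    exact mul_zero_left (by simpa [ev, ev1, env] using h) a28
  have z38 : t4 38 = 0 := by
    have h := sq_val hS4 f4 s4 (r := 40) (p := [[30, 36], [28, 38]]) hc4 (by decide)
      (by decide +kernel)
    exact mul_zero_left (by simpa [ev, ev1, env, z36] using h) a28
  have z42 : t4 42 = 0 := by
    rw [fix_val hS4 f4 s4 (r := 42) (p := [[136]]) hcf4 (by decide) (by decide +kernel)]
    simpa [ev, ev1, env] using frob_zero (φ := φ) z36 (lm_ne 36 (by decide))
  have z43 : t4 43 = 0 := by
    rw [fix_val hS4 f4 s4 (r := 43) (p := [[138]]) hcf4 (by decide) (by decide +kernel)]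
    simpa [ev, ev1, env] using frob_zero (φ := φ) z38 (lm_ne 38 (by decide))
  have h29 : t4 29 = φ (t4 41) ^ Isog.dataF4.lm 41 := by
    rw [fix_val hS4 f4 s4 (r := 29) (p := [[141]]) hcf4 (by decide) (by decide +kernel)]
    simp [ev, ev1, env]
  have h41 : t4 41 = φ (t4 29) ^ Isog.dataF4.lm 29 := by
    rw [fix_val hS4 f4 s4 (r := 41) (p := [[129]]) hcf4 (by decide) (by decide +kernel)]
    simp [ev, ev1, env]
  have z29 : t4 29 = 0 ∧ t4 41 = 0 := by
    have h := sq_val hS4 f4 s4 (r := 44) (p := [[29, 41], [28, 42]]) hc4 (by decide)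
      (by decide +kernel)
    have h' : t4 29 * t4 41 = 0 := by simpa [ev, ev1, env, z42] using h
    rcases mul_eq_zero.1 h' with e | e
    · exact ⟨e, h41.trans (frob_zero e (lm_ne 29 (by decide)))⟩
    · exact ⟨h29.trans (frob_zero e (lm_ne 41 (by decide))), e⟩
  have s5 : Supp [28, 30, 44, 47] t4 :=
    s4.zero [36, 38, 42, 43, 29, 41] (by simp [z36, z38, z42, z43, z29.1, z29.2])
  exact Done.of_cj (((j1.trans j2).trans j3).trans j4) (cj_Z hφ hK f4 s5 a28)

/-- The last class can be dropped. -/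
theorem drop7 {S : List ℕ} {t : ℕ → K} (hf : Fx φ t) (hs : Supp S t) :
    Done φ t ∨ Supp (S.filter fun r => decide (r ∉ [25, 27, 28, 30])) t := by
  have hfull : Supp full t := fun r hr hn => absurd hr hn
  have h27 : t 27 = φ (t 25) ^ Isog.dataF4.lm 25 := by
    rw [fix_val (by decide +kernel) hf hfull (r := 27) (p := [[125]]) (by decide +kernel)
      (by decide) (by decide +kernel)]
    simp [ev, ev1, env]
  have h25 : t 25 = φ (t 27) ^ Isog.dataF4.lm 27 := by
    rw [fix_val (by decide +kernel) hf hfull (r := 25) (p := [[127]]) (by decide +kernel)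
      (by decide) (by decide +kernel)]
    simp [ev, ev1, env]
  have h := sq_val (by decide +kernel) hf hfull (r := 28) (p := [[25, 27]]) (by decide +kernel)
    (by decide) (by decide +kernel)
  have h' : t 25 * t 27 = 0 := by simpa [ev, ev1, env] using h
  have z : t 25 = 0 ∧ t 27 = 0 := by
    rcases mul_eq_zero.1 h' with e | e
    · exact ⟨e, h27.trans (frob_zero e (lm_ne 25 (by decide)))⟩
    · exact ⟨h25.trans (frob_zero e (lm_ne 27 (by decide))), e⟩
  have h22 : Supp (full.filter fun r => decide (r ∉ [25, 27])) t :=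
    hfull.zero _ (by simp [z.1, z.2])
  by_cases h28 : t 28 = 0
  · refine Or.inr (hs.zero _ ?_)
    have h30 : t 30 = 0 := by
      rw [fix_val (by decide +kernel) hf h22 (r := 30) (p := [[128]]) (by decide +kernel)
        (by decide) (by decide +kernel)]
      simpa [ev, ev1, env] using frob_zero (φ := φ) h28 (lm_ne 28 (by decide))
    simp [z.1, z.2, h28, h30]
  · exact Or.inl (caseB hφ hK hf h22 h28)

/-- The first class can be dropped. -/
theorem drop0 {S : List ℕ} {t : ℕ → K} (hf : Fx φ t) (hs : Supp S t)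
    (hS : S ⊆ CS [0, 1, 2, 3, 4, 5, 6]) :
    Done φ t ∨ Supp (S.filter fun r => decide (r ∉ [24, 33])) t := by
  by_cases h24 : t 24 = 0
  · refine Or.inr (hs.zero _ ?_)
    have h33 : t 33 = 0 := by
      rw [fix_val (by decide +kernel) hf (hs.mono hS) (r := 33) (p := [[124]]) (by decide +kernel)
        (by decide) (by decide +kernel)]
      simpa [ev, ev1, env] using frob_zero (φ := φ) h24 (lm_ne 24 (by decide))
    simp [h24, h33]
  · exact Or.inl (Or.inr (caseA hφ hK hf (hs.mono hS) h24))

omit hφ hK in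
/-- Moving by a fundamental monomial element. -/
theorem move {w : List ℕ} (hw : ∀ i ∈ w, i < 4) (hn : (endo φ).σ (nW (K := K) w) = nW w)
    {S S' : List ℕ} (hS : Lists S) (hc : collectsB chevF4 full (rotW w (sW S)) = true)
    (hsupp : suppB (collect chevF4 (rotW w (sW S))) S' = true) {t : ℕ → K} (hf : Fx φ t)
    (hs : Supp S t) : ∃ t', Cj φ (el t) (el t') ∧ Fx φ t' ∧ Supp S' t' := by
  have e := rot_coord hS hs hw hc φ
  exact ⟨_, ⟨_, hn, e⟩, hf.of_conj hn e, supp_coord hsupp _⟩

/-- Every fixed involution of `U` is conjugate to a representative. -/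
theorem classify {t : ℕ → K} (hf : Fx φ t) (hne : el t ≠ 1) : Done φ t := by
  have hA := σ_nA hφ hK
  have hB := σ_nB hφ hK
  have hfull : Supp full t := fun r hr hn => absurd hr hn
  rcases drop7 hφ hK hf hfull with h | s
  · exact h
  rcases drop0 hφ hK hf s (by decide +kernel) with h | s
  · exact h
  obtain ⟨t1, j1, f1, s1⟩ := move wA_lt hA (S' := CS [2, 3, 4, 5, 6, 7]) (by decide +kernel)
    (by decide +kernel) (by decide +kernel) hf s
  refine Done.of_cj j1 ?_
  rcases drop7 hφ hK f1 s1 with h | s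
  · exact h
  obtain ⟨t2, j2, f2, s2⟩ := move wB_lt hB (S' := CS [0, 1, 2, 3, 4]) (by decide +kernel)
    (by decide +kernel) (by decide +kernel) f1 s
  refine Done.of_cj j2 ?_
  rcases drop0 hφ hK f2 s2 (by decide +kernel) with h | s
  · exact h
  obtain ⟨t3, j3, f3, s3⟩ := move wA_lt hA (S' := CS [4, 5, 6, 7]) (by decide +kernel)
    (by decide +kernel) (by decide +kernel) f2 s
  refine Done.of_cj j3 ?_
  rcases drop7 hφ hK f3 s3 with h | s
  · exact h
  obtain ⟨t4, j4, f4, s4⟩ := move wB_lt hB (S' := CS [0, 1, 2]) (by decide +kernel)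
    (by decide +kernel) (by decide +kernel) f3 s
  refine Done.of_cj j4 ?_
  rcases drop0 hφ hK f4 s4 (by decide +kernel) with h | s
  · exact h
  obtain ⟨t5, j5, f5, s5⟩ := move wA_lt hA (S' := CS [6, 7]) (by decide +kernel)
    (by decide +kernel) (by decide +kernel) f4 s
  refine Done.of_cj j5 ?_
  rcases drop7 hφ hK f5 s5 with h | s
  · exact h
  obtain ⟨t6, j6, f6, s6⟩ := move wB_lt hB (S' := CS [0]) (by decide +kernel)
    (by decide +kernel) (by decide +kernel) f5 s
  refine Done.of_cj j6 ?_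
  rcases drop0 hφ hK f6 s6 (by decide +kernel) with h | s
  · exact h
  exfalso
  have h6 : el t6 = 1 := by
    rw [← el_zero (K := K)]
    exact xprod_congr (QD K) fun r hr =>
      (s.mono (S' := []) (by decide +kernel)) r hr List.not_mem_nil
  obtain ⟨g, -, e⟩ := ((((j1.trans j2).trans j3).trans j4).trans j5).trans j6
  rw [h6, conj_eq_one_iff] at e
  exact hne e

end Cfsg.Agent.H37.Twist.F4Inv
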