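import Cfsg.Agent.H37.Twist.Collect
import Cfsg.Agent.H37.Twist.F4

/-!
`²F₄(q)`: coordinates on the 24 positive roots, and the effect of squaring, of the endomorphism,
of conjugation by words and by monomial elements.
-/
set_option autoImplicit false
set_option maxRecDepth 100000
set_option linter.unusedSectionVars false

namespace Cfsg.Agent.H37.Twist.F4Inv

open Cfsg.Lie Cfsg.Agent.H37 Cfsg.Agent.H37.RootSys Cfsg.Agent.H37.NormalForm
  Cfsg.Agent.H37.Twist Cfsg.Agent.H37.Twist.F4 Cfsg.Agent.H37.Twist.Collect

variable {K : Type*} [Field K]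

/-- The positive roots. -/
def full : List ℕ := List.range' 24 24

/-- A product with variable coefficients. -/
def sW (S : List ℕ) : Word := S.map fun r => (r, [[r]])

/-- Its image under the endomorphism. -/
def fW (S : List ℕ) : Word := S.map fun r => (tables.rh r, [[100 + r]])

/-- The values of the variables. -/
def env (φ : K →+* K) (t : ℕ → K) (x : K) (i : ℕ) : K :=
  if i < 100 then t i else if i < 200 then φ (t (i - 100)) ^ Isog.dataF4.lm (i - 100)
  else if i = 200 then x else φ x

/-- A word moved by a Weyl word. -/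
def rotW (w : List ℕ) (g : Word) : Word := g.map fun q => (Weyl.certF4.act w q.1, q.2)

/-- The roots of a word are root indices. -/
def ltB (g : Word) : Bool := g.all fun q => decide (q.1 < 48)

/-- The support of a word lies in a list. -/
def suppB (c : Word) (S : List ℕ) : Bool := c.all fun q => decide (q.1 ∈ S)

theorem env_var (φ : K →+* K) (t : ℕ → K) (x : K) {r : ℕ} (h : r < 100) : env φ t x r = t r := if_pos h

theorem env_frob (φ : K →+* K) (t : ℕ → K) (x : K) {r : ℕ} (h : r < 100) :
    env φ t x (100 + r) = φ (t r) ^ Isog.dataF4.lm r := by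
  simp [env, show ¬100 + r < 100 by omega, show 100 + r < 200 by omega]

theorem mem_full {r : ℕ} : r ∈ full ↔ 24 ≤ r ∧ r < 48 := by simp [full, List.mem_range'_1]

/-- The support condition. -/
def Supp (S : List ℕ) (t : ℕ → K) : Prop := ∀ r ∈ full, r ∉ S → t r = 0

theorem Supp.mono {S S' : List ℕ} {t : ℕ → K} (h : Supp S t) (hs : S ⊆ S') : Supp S' t :=
  fun r hr hn => h r hr fun hm => hn (hs hm)

theorem Supp.filter {S : List ℕ} {t : ℕ → K} (h : Supp S t) {p : ℕ → Bool}
    (hz : ∀ r ∈ S, p r = false → t r = 0) : Supp (S.filter p) t := fun r hr hn => by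
  by_cases hm : r ∈ S
  · exact hz r hm (by simpa [List.mem_filter, hm] using hn)
  · exact h r hr hm

/-- Equality of coordinates on a list. -/
def Lists (S : List ℕ) : Prop := full.filter (fun r => decide (r ∈ S)) = S

instance (S : List ℕ) : Decidable (Lists S) := inferInstanceAs (Decidable (_ = S))

theorem Lists.lt {S : List ℕ} (h : Lists S) {r : ℕ} (hr : r ∈ S) : r < 48 := by
  rw [← h, List.mem_filter] at hr
  exact (mem_full.1 hr.1).2

variable [Fintype K] [CharP K 2] {φ : K →+* K}

/-- The element with given coordinates. -/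
noncomputable def el (t : ℕ → K) : ↥(chevF4.group K) := xprod (QD K) full t

theorem xe_zero' {r : ℕ} (hr : r < 48) : xe r (0 : K) = 1 := xe_zero (show r < chevF4.nroots from hr)

theorem xe_sq {r : ℕ} (hr : r < 48) (t : K) : xe r t * xe r t = 1 := by
  rw [← xe_add (show r < chevF4.nroots from hr), CharTwo.add_self_eq_zero, xe_zero' hr]

theorem el_eq {S : List ℕ} (hS : Lists S) {t : ℕ → K} (h : Supp S t) :
    el t = xprod (QD K) S t := by
  have key : ∀ L : List ℕ, (∀ r ∈ L, r ∈ full) → xprod (QD K) L t =
      xprod (QD K) (L.filter fun r => decide (r ∈ S)) t := by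
    intro L
    induction L with
    | nil => intro _; rfl
    | cons a L ih =>
      intro hL
      have ih' := ih fun r hr => hL r (List.mem_cons_of_mem _ hr)
      rw [List.filter_cons, xprod_cons, ih']
      split_ifs with ha
      · rw [xprod_cons]
      · rw [h a (hL a List.mem_cons_self) (by simpa using ha)]
        show xe a 0 * _ = _
        rw [xe_zero' (mem_full.1 (hL a List.mem_cons_self)).2, one_mul]
  rw [el, key full fun _ h => h, hS]

theorem full_closed : (QD K).sys.toUnip.Closed full.toFinset := by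
  rw [show full.toFinset = (QD K).sys.toUnip.P by
    rw [(QD K).sys.P_eq]; exact (by decide +kernel : full.toFinset = posSet chevF4)]
  exact (QD K).sys.toUnip.closed_P

theorem full_sorted : full.Pairwise (· < ·) := by decide

theorem el_inj {t t' : ℕ → K} (h : el t = el t') : ∀ r ∈ full, t r = t' r :=
  xprod_inj (QD K) full_sorted full_closed h

theorem el_mem (t : ℕ → K) : el t ∈ (QD K).sys.U := by
  refine XS_mono ?_ (xprod_mem (QD K) t)
  intro r hr
  rw [(by decide +kernel : full.toFinset = posSet chevF4)] at hr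
  exact hr

theorem exists_el {u : ↥(chevF4.group K)} (hu : u ∈ (QD K).sys.U) : ∃ t, u = el t := by
  refine exists_xprod (QD K) full_sorted full_closed ?_
  rw [(by decide +kernel : full.toFinset = posSet chevF4)]
  exact hu

omit [Fintype K] in
theorem el_zero : el (K := K) (fun _ => 0) = 1 := by
  refine List.prod_eq_one fun g hg => ?_
  obtain ⟨r, hr, rfl⟩ := List.mem_map.1 hg
  exact (QD K).sys.x_zero' (show r < chevF4.nroots from (mem_full.1 hr).2)

theorem wG_sW {S : List ℕ} (hS : ∀ r ∈ S, r < 48) (t : ℕ → K) (x : K) :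
    wG (QD K) (evw (env φ t x) (sW S)) = xprod (QD K) S t := by
  simp only [wG, evw, sW, xprod, List.map_map]
  refine congrArg List.prod (List.map_congr_left fun r hr => ?_)
  simp [ev, ev1, env_var φ t x (show r < 100 by have := hS r hr; omega)]

theorem wG_fW {S : List ℕ} (hS : ∀ r ∈ S, r < 48) (t : ℕ → K) (x : K) :
    (endo φ).σ (xprod (QD K) S t) = wG (QD K) (evw (env φ t x) (fW S)) := by
  simp only [wG, evw, fW, xprod, map_list_prod, List.map_map]
  refine congrArg List.prod (List.map_congr_left fun r hr => ?_)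
  have hr' := hS r hr
  show (endo φ).σ (xe r (t r)) = xe (tables.rh r) _
  rw [σ_xe (show r < chevF4.nroots from hr')]
  simp [ev, ev1, env_frob φ t x (show r < 100 by omega)]

theorem wG_coords {w : Word} (h : collectsB chevF4 full w = true) (v : ℕ → K) :
    wG (QD K) (evw v w) = el fun r => ev v (coordP (collect chevF4 w) r) :=
  coords v (QD K) (by decide) h

omit [Fintype K] [CharP K 2] in
theorem evw_append (v : ℕ → K) (a b : Word) : evw v (a ++ b) = evw v a ++ evw v b := List.map_append ..

theorem wG_inv (v : ℕ → K) {g : Word} (hg : ltB g = true) :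
    (wG (QD K) (evw v g))⁻¹ = wG (QD K) (evw v g.reverse) := by
  simp only [ltB, List.all_eq_true, decide_eq_true_eq] at hg
  induction g with
  | nil => simp [wG, evw]
  | cons q g ih =>
    rw [List.reverse_cons, evw_append, wG_append, ← ih fun p hp => hg p (List.mem_cons_of_mem _ hp)]
    simp only [wG, evw, List.map_cons, List.map_nil, List.prod_cons, List.prod_nil, mul_one,
      mul_inv_rev]
    congr 1
    exact inv_eq_of_mul_eq_one_right (xe_sq (hg q List.mem_cons_self) _)

/-- The coordinates of a square. -/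
theorem sq_coord {S : List ℕ} (hS : Lists S) {t : ℕ → K} (h : Supp S t)
    (hc : collectsB chevF4 full (sW S ++ sW S) = true) (h1 : el t * el t = 1) (φ : K →+* K) :
    ∀ r ∈ full, ev (env φ t 0) (coordP (collect chevF4 (sW S ++ sW S)) r) = 0 := by
  have e : el (K := K) (fun r => ev (env φ t 0) (coordP (collect chevF4 (sW S ++ sW S)) r))
      = el fun _ => 0 := by
    rw [← wG_coords hc, evw_append, wG_append, wG_sW (fun r hr => hS.lt hr), ← el_eq hS h, h1,
      el_zero]
  exact el_inj e

/-- The coordinates of a fixed element. -/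
theorem fix_coord {S : List ℕ} (hS : Lists S) {t : ℕ → K} (h : Supp S t)
    (hc : collectsB chevF4 full (fW S) = true) (h1 : (endo φ).σ (el t) = el t) :
    ∀ r ∈ full, t r = ev (env φ t 0) (coordP (collect chevF4 (fW S)) r) := by
  refine el_inj ?_
  rw [← wG_coords hc, ← wG_fW (fun r hr => hS.lt hr), ← el_eq hS h, h1]

/-- The coordinates of a conjugate by a word. -/
theorem conj_coord {S : List ℕ} (hS : Lists S) {t : ℕ → K} (h : Supp S t) {g : Word}
    (hg : ltB g = true) (hc : collectsB chevF4 full (g ++ sW S ++ g.reverse) = true) (x : K) :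
    wG (QD K) (evw (env φ t x) g) * el t * (wG (QD K) (evw (env φ t x) g))⁻¹
      = el fun r => ev (env φ t x) (coordP (collect chevF4 (g ++ sW S ++ g.reverse)) r) := by
  rw [← wG_coords hc, evw_append, evw_append, wG_append, wG_append,
    wG_sW (fun r hr => hS.lt hr), ← el_eq hS h, wG_inv _ hg]

/-- The product of fundamental monomial elements. -/
noncomputable def nW (w : List ℕ) : ↥(chevF4.group K) :=
  (w.map fun i => nUG (QD K) (chevF4.simple i) 1).prod

theorem nW_conj : ∀ {w : List ℕ}, (∀ i ∈ w, i < 4) → ∀ {r : ℕ}, r < 48 → ∀ t : K,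
    Weyl.certF4.act w r < 48 ∧ nW w * xe r t * (nW w)⁻¹ = xe (Weyl.certF4.act w r) t
  | [], _, r, hr, t => by simpa [nW, Weyl.Cert.act] using hr
  | i :: w, hw, r, hr, t => by
    obtain ⟨hlt, e⟩ := nW_conj (fun a ha => hw a (List.mem_cons_of_mem _ ha)) hr t
    have hi : i < 4 := hw i List.mem_cons_self
    have hs : Weyl.certF4.sigma i (Weyl.certF4.act w r) =
        (QD K).K.w i (Weyl.certF4.act w r) :=
      RootSys.sigma_eq_w (QD K).K (hC := Weyl.goodF4) (hi) hlt
    refine ⟨?_, ?_⟩
    · exact ((Weyl.goodF4).sigma_spec hi hlt).1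
    · have e1 : nW (K := K) (i :: w) = nUG (QD K) (chevF4.simple i) 1 * nW w := by simp [nW]
      rw [e1, show ∀ a b x : ↥(chevF4.group K), a * b * x * (a * b)⁻¹ = a * (b * x * b⁻¹) * a⁻¹
        from fun a b x => by group, e]
      refine Subtype.ext ?_
      show (QD K).K.nS K i * (QD K).K.xU K _ t * ((QD K).K.nS K i)⁻¹ = (QD K).K.xU K _ t
      rw [(QD K).K.nS_conj_xU K hi hlt, ← hs]
      congr 1
      have hodd : ∀ z : ℤ, z * z = 1 → (z : K) = 1 := fun z hz => by
        rcases Int.eq_one_or_neg_one_of_mul_eq_one hz with h | h <;> subst h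
        · simp
        · rw [Int.cast_neg, Int.cast_one, CharTwo.neg_eq]
      rw [hodd _ ((QD K).K.sg_sq i _), one_mul]

theorem nW_wG {w : List ℕ} (hw : ∀ i ∈ w, i < 4) (v : ℕ → K) {g : Word} (hg : ltB g = true) :
    nW w * wG (QD K) (evw v g) * (nW w)⁻¹ = wG (QD K) (evw v (rotW w g)) := by
  simp only [ltB, List.all_eq_true, decide_eq_true_eq] at hg
  rw [← MulAut.conj_apply, wG, wG, map_list_prod]
  simp only [evw, rotW, List.map_map]
  refine congrArg List.prod (List.map_congr_left fun q hq => ?_)
  exact (nW_conj hw (hg q hq) _).2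

/-- The coordinates of a conjugate by a monomial element. -/
theorem rot_coord {S : List ℕ} (hS : Lists S) {t : ℕ → K} (h : Supp S t) {w : List ℕ}
    (hw : ∀ i ∈ w, i < 4) (hc : collectsB chevF4 full (rotW w (sW S)) = true) (φ : K →+* K) :
    nW w * el t * (nW w)⁻¹
      = el fun r => ev (env φ t 0) (coordP (collect chevF4 (rotW w (sW S))) r) := by
  have hlt : ltB (sW S) = true := by
    simp only [ltB, sW, List.all_map, List.all_eq_true, Function.comp_apply, decide_eq_true_eq]
    exact fun r hr => hS.lt hr
  rw [← wG_coords hc, ← nW_wG hw _ hlt, wG_sW (fun r hr => hS.lt hr), ← el_eq hS h]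

theorem suppB_spec {c : Word} {S : List ℕ} (h : suppB c S = true) {r : ℕ} (hr : r ∉ S) :
    coordP c r = [] := by
  refine coordP_none fun hm => hr ?_
  obtain ⟨q, hq, rfl⟩ := List.mem_map.1 hm
  simp only [suppB, List.all_eq_true, decide_eq_true_eq] at h
  exact h q hq

omit [Fintype K] [CharP K 2] in
theorem supp_coord {c : Word} {S : List ℕ} (h : suppB c S = true) (v : ℕ → K) :
    Supp S fun r => ev v (coordP c r) := fun r _ hn => by
  show ev v (coordP c r) = 0
  rw [suppB_spec h hn]
  rfl

end Cfsg.Agent.H37.Twist.F4Inv
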