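import Cfsg.Agent.H37.Twist.F4Inv.Cent

/-!
`²F₄(q)`: two classes of involutions, and the primes of elements commuting with an involution.
-/
set_option autoImplicit false
set_option maxRecDepth 100000
set_option linter.unusedSectionVars false

namespace Cfsg.Agent.H37.Twist.F4Inv

open Cfsg.Lie Cfsg.Agent.H37 Cfsg.Agent.H37.RootSys Cfsg.Agent.H37.NormalForm
  Cfsg.Agent.H37.Twist Cfsg.Agent.H37.Twist.F4 Cfsg.Agent.H37.Twist.Collect
open Cfsg.Agent.H56.TwAut (lift lift_mul lift_inv lift_iso lift_injective)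

variable {K : Type*} [Field K] [Fintype K] [CharP K 2] {φ : K →+* K} {m : ℕ}

theorem Cj.fix {u v : ↥(chevF4.group K)} (h : Cj φ u v) (hu : (endo φ).σ u = u) :
    (endo φ).σ v = v := by
  obtain ⟨g, hg, rfl⟩ := h
  rw [map_mul, map_mul, map_inv, hg, hu]

theorem Cj.sq_eq {u v : ↥(chevF4.group K)} (h : Cj φ u v) (hu : u * u = 1) : v * v = 1 := by
  obtain ⟨g, -, rfl⟩ := h
  rw [show g * u * g⁻¹ * (g * u * g⁻¹) = g * (u * u) * g⁻¹ by group, hu, mul_one, mul_inv_cancel]

theorem indic_ne_one {S : List ℕ} {r : ℕ} (hr : r ∈ S) (hf : r ∈ full) :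
    el (indic S) ≠ (1 : ↥(chevF4.group K)) := by
  intro e
  rw [← el_zero (K := K)] at e
  have := el_inj e r hf
  rw [indic, if_pos hr] at this
  exact one_ne_zero this

variable (hφ : ∀ t, φ t = t ^ 2 ^ m) (hK : Fintype.card K = 2 ^ (2 * m + 1))
include hφ hK

theorem repZ_fix : (endo φ).σ (repZ (K := K)) = repZ := by
  rw [← repZ_word (fun _ => (0 : K))]
  exact fix_oneW hφ hK (by simp) _

theorem repP_fix : (endo φ).σ (repP (K := K)) = repP := by
  rw [← repP_word (fun _ => (0 : K))]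
  exact fix_oneW hφ hK (by simp) _

omit hφ hK in
theorem repZ_sq : repZ (K := K) * repZ = 1 := by
  set v : ℕ → K := fun _ => 0
  rw [← repZ_word v, ← wG_append, ← evw_append,
    el_of_word (S := []) (by decide +kernel) (by decide +kernel) v]
  exact (xprod_congr (QD K) fun r _ => by simp [indic]).trans el_zero

omit hφ hK in
theorem repP_sq : repP (K := K) * repP = 1 := by
  set v : ℕ → K := fun _ => 0
  rw [← repP_word v, ← wG_append, ← evw_append,
    el_of_word (S := []) (by decide +kernel) (by decide +kernel) v]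
  exact (xprod_congr (QD K) fun r _ => by simp [indic]).trans el_zero

/-- The first representative in the twisted group, moved to the centre. -/
noncomputable def invZ : ↥(model hφ hK).T :=
  (model hφ hK).iso ⟨el (indic [44, 47]), (cj_C3 hφ hK).fix (repZ_fix hφ hK)⟩

/-- The second representative in the twisted group, moved to the middle. -/
noncomputable def invP : ↥(model hφ hK).T :=
  (model hφ hK).iso ⟨el (indic [39, 45]), (cj_X4 hφ hK).fix (repP_fix hφ hK)⟩

theorem lift_invZ : lift (model hφ hK) (invZ hφ hK) = el (indic [44, 47]) := lift_iso _ _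

theorem lift_invP : lift (model hφ hK) (invP hφ hK) = el (indic [39, 45]) := lift_iso _ _

theorem order_two {x : ↥(model hφ hK).T} {y : ↥(chevF4.group K)}
    (hl : lift (model hφ hK) x = y) (h1 : y * y = 1) (h2 : y ≠ 1) : orderOf x = 2 := by
  refine orderOf_eq_prime ?_ ?_
  · refine lift_injective (model hφ hK) ?_
    rw [pow_two, lift_mul, hl, h1]
    rfl
  · intro e
    exact h2 (by rw [← hl, e]; rfl)

theorem order_invZ : orderOf (invZ hφ hK) = 2 :=
  order_two hφ hK (lift_invZ hφ hK) ((cj_C3 hφ hK).sq_eq repZ_sq)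
    (indic_ne_one (r := 44) (by simp) (by decide))

theorem order_invP : orderOf (invP hφ hK) = 2 :=
  order_two hφ hK (lift_invP hφ hK) ((cj_X4 hφ hK).sq_eq repP_sq)
    (indic_ne_one (r := 39) (by simp) (by decide))

theorem invZ_not_conj : ¬ IsConj (invZ hφ hK) (invP hφ hK) := by
  intro h
  obtain ⟨g, hg⟩ := isConj_iff.1 h
  refine not_conj hφ hK g ?_
  rw [← lift_invZ hφ hK, ← lift_invP hφ hK, ← hg, lift_mul, lift_mul, lift_inv]

theorem isConj_of_cj {x y : ↥(model hφ hK).T}
    (h : Cj φ (lift (model hφ hK) x) (lift (model hφ hK) y)) : IsConj x y := by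
  obtain ⟨g, hg, e⟩ := h
  refine isConj_iff.2 ⟨(model hφ hK).iso ⟨g, hg⟩, lift_injective (model hφ hK) ?_⟩
  rw [lift_mul, lift_mul, lift_inv, lift_iso, ← e]

/-- Every involution is conjugate to one of the two. -/
theorem involution_conj {x : ↥(model hφ hK).T} (hx : orderOf x = 2) :
    IsConj x (invZ hφ hK) ∨ IsConj x (invP hφ hK) := by
  haveI : Fact (Nat.Prime 2) := ⟨Nat.prime_two⟩
  have hU : IsPGroup 2 (model hφ hK).tw.U := by
    have := H56.TwAut.isPGroup_U (model hφ hK)
    rwa [ringChar.eq K 2] at this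
  have hidx : ¬ 2 ∣ (model hφ hK).tw.U.index := by
    have := H56.TwAut.index_U (model hφ hK)
    rwa [ringChar.eq K 2] at this
  obtain ⟨P, hP⟩ := (IsPGroup.of_card (p := 2) (n := 1)
    (by rw [Nat.card_zpowers, hx, pow_one]) : IsPGroup 2 (Subgroup.zpowers x)).exists_le_sylow
  obtain ⟨c, hc⟩ := MulAction.exists_smul_eq (↥(model hφ hK).T) P (hU.toSylow hidx)
  have hcU : c * x * c⁻¹ ∈ (model hφ hK).tw.U := by
    have h : MulAut.conj c x ∈ (↑(c • P) : Subgroup ↥(model hφ hK).T) := by
      rw [Sylow.coe_subgroup_smul]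
      exact Subgroup.smul_mem_pointwise_smul _ _ _ (hP (Subgroup.mem_zpowers x))
    rw [hc] at h
    simpa using h
  set x' := c * x * c⁻¹ with hx'
  have hxx' : IsConj x x' := isConj_iff.2 ⟨c, rfl⟩
  obtain ⟨t, ht⟩ := exists_el (show lift (model hφ hK) x' ∈ (QD K).sys.U from
    (H56.TwAut.mem_U _).1 hcU)
  have hx2 : x * x = 1 := by
    have h := pow_orderOf_eq_one x
    rwa [hx, pow_two] at h
  have hx'2 : x' * x' = 1 := by
    rw [hx', show c * x * c⁻¹ * (c * x * c⁻¹) = c * (x * x) * c⁻¹ by group, hx2, mul_one,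
      mul_inv_cancel]
  have hf : Fx φ t := by
    refine ⟨?_, ?_⟩
    · rw [← ht, ← lift_mul, hx'2]; rfl
    · rw [← ht]
      exact (model hφ hK).TG_fixed x'.2
  have hne : el t ≠ 1 := by
    intro e
    have h1 : x' = 1 := lift_injective (model hφ hK) (ht.trans e)
    rw [hx', conj_eq_one_iff] at h1
    rw [h1, orderOf_one] at hx
    omega
  rcases classify hφ hK hf hne with h | h
  · refine Or.inl (hxx'.trans (isConj_of_cj hφ hK ?_))
    rw [ht, lift_invZ]
    exact h.trans (cj_C3 hφ hK)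
  · refine Or.inr (hxx'.trans (isConj_of_cj hφ hK ?_))
    rw [ht, lift_invP]
    exact h.trans (cj_X4 hφ hK)

/-- Two classes of involutions. -/
theorem ncard_classes :
    (ConjClasses.mk '' {x : ↥(model hφ hK).T | orderOf x = 2}).ncard = 2 := by
  have hset : ConjClasses.mk '' {x : ↥(model hφ hK).T | orderOf x = 2} =
      {ConjClasses.mk (invZ hφ hK), ConjClasses.mk (invP hφ hK)} := by
    ext C
    constructor
    · rintro ⟨x, hx, rfl⟩
      exact (involution_conj hφ hK hx).imp ConjClasses.mk_eq_mk_iff_isConj.2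
        ConjClasses.mk_eq_mk_iff_isConj.2
    · rintro (rfl | rfl)
      · exact ⟨_, order_invZ hφ hK, rfl⟩
      · exact ⟨_, order_invP hφ hK, rfl⟩
  rw [hset, Set.ncard_pair fun e => invZ_not_conj hφ hK (ConjClasses.mk_eq_mk_iff_isConj.1 e)]

theorem card_par (j : Fin 2) :
    Nat.card ↥((model hφ hK).tw.minPar (Set.mem_range_self j)) =
      (2 ^ (2 * m + 1)) ^ 12 * (2 ^ (2 * m + 1) - 1) ^ 2 *
        (1 + (2 ^ (2 * m + 1)) ^ (if j = 0 then 1 else 2)) := by
  refine ((model hφ hK).tw.card_minPar (Set.mem_range_self j)).trans ?_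
  set Md := model hφ hK
  have hU : Nat.card Md.tw.U = (2 ^ (2 * m + 1)) ^ 12 := by
    rw [Md.tw_U, ← Md.card_inf_eq]; exact card_U hφ hK
  have hH : Nat.card Md.tw.H = (2 ^ (2 * m + 1) - 1) ^ 2 := by
    rw [Md.tw_H, ← Md.card_inf_eq]; exact card_H hφ hK
  rw [hU, hH]
  congr 2
  refine Nat.pow_left_injective (show (2 : ℕ) ≠ 0 by norm_num) ?_
  show _ ^ 2 = _ ^ 2
  refine (Md.card_tw_Uw (gens j)).trans ?_
  rw [Nat.card_eq_fintype_card, hK, show (QD K).X.good.inv ((fold φ).ι (gens j)) = _ from inv_gen j]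
  generalize 2 ^ (2 * m + 1) = q
  rw [← pow_mul]
  congr 1
  rcases (show ∀ j : Fin 2, j = 0 ∨ j = 1 by decide) j with h | h <;> subst h <;> simp

/-- Primes of elements commuting with an involution. -/
theorem prime_dvd_of_commute {a b : ↥(model hφ hK).T} (ha : orderOf a = 2) (hab : Commute a b)
    {p : ℕ} (hp : p.Prime) (hpb : p ∣ orderOf b) :
    p ∣ 2 ^ (2 * m + 1) * ((2 ^ (2 * m + 1)) ^ 4 - 1) := by
  have key : ∀ (y : ↥(model hφ hK).T) (j : Fin 2),
      (∀ g, lift (model hφ hK) g * lift (model hφ hK) y * (lift (model hφ hK) g)⁻¹ =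
        lift (model hφ hK) y → g ∈ (model hφ hK).tw.minPar (Set.mem_range_self j)) →
      IsConj a y → p ∣ 2 ^ (2 * m + 1) * ((2 ^ (2 * m + 1)) ^ 4 - 1) := by
    intro y j hy hconj
    obtain ⟨c, hc⟩ := isConj_iff.1 hconj
    have hb : c * b * c⁻¹ ∈ (model hφ hK).tw.minPar (Set.mem_range_self j) := by
      refine hy _ ?_
      rw [← lift_inv, ← lift_mul, ← lift_mul, ← hc]
      congr 1
      calc c * b * c⁻¹ * (c * a * c⁻¹) * (c * b * c⁻¹)⁻¹ = c * (b * a * b⁻¹) * c⁻¹ := by group
        _ = c * a * c⁻¹ := by rw [← hab.eq, mul_inv_cancel_right]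
    have hdvd : orderOf b ∣ Nat.card ↥((model hφ hK).tw.minPar (Set.mem_range_self j)) := by
      rw [show orderOf b = orderOf (MulAut.conj c b) from
        (orderOf_injective (MulAut.conj c).toMonoidHom (MulAut.conj c).injective b).symm]
      show orderOf (c * b * c⁻¹) ∣ _
      rw [← Subgroup.orderOf_mk _ hb]
      exact orderOf_dvd_natCard _
    rw [card_par hφ hK j] at hdvd
    set q := 2 ^ (2 * m + 1) with hq
    have hq1 : 1 ≤ q := Nat.one_le_two_pow
    obtain ⟨k, hk⟩ : ∃ k, q = k + 1 := ⟨q - 1, by omega⟩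
    have h4 : q ^ 4 - 1 = k * (q + 1) * (q ^ 2 + 1) := by
      refine Nat.sub_eq_of_eq_add ?_
      rw [hk]; ring
    have hk' : q - 1 = k := by omega
    rw [hk'] at hdvd
    rw [h4]
    rcases hp.dvd_mul.1 (hpb.trans hdvd) with h | h
    · rcases hp.dvd_mul.1 h with h | h
      · exact (hp.dvd_of_dvd_pow h).mul_right _
      · exact (((hp.dvd_of_dvd_pow h).mul_right _).mul_right _).mul_left _
    · split_ifs at h
      · rw [pow_one, add_comm] at h
        exact ((h.mul_left k).mul_right _).mul_left _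
      · rw [add_comm] at h
        exact (h.mul_left (k * (q + 1))).mul_left _
  rcases involution_conj hφ hK ha with h | h
  · refine key _ 1 (fun g e => ?_) h
    rw [lift_invZ] at e
    exact cent_Z hφ hK g e
  · refine key _ 0 (fun g e => ?_) h
    rw [lift_invP] at e
    exact cent_P hφ hK g e

end Cfsg.Agent.H37.Twist.F4Inv
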