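import Cfsg.Agent.H37.Twist.F4Inv.Steps

/-!
`²F₄(q)`: the two representatives of the classes of involutions, the action of the torus, and a
third element conjugate to the second representative.
-/
set_option autoImplicit false
set_option maxRecDepth 100000
set_option linter.unusedSectionVars false

namespace Cfsg.Agent.H37.Twist.F4Inv

open Cfsg.Lie Cfsg.Agent.H37 Cfsg.Agent.H37.RootSys Cfsg.Agent.H37.NormalForm
  Cfsg.Agent.H37.Twist Cfsg.Agent.H37.Twist.F4 Cfsg.Agent.H37.Twist.Collect

variable {K : Type*} [Field K] [Fintype K] [CharP K 2] {φ : K →+* K} {m : ℕ}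

/-- The indicator of a list. -/
def indic (S : List ℕ) (r : ℕ) : K := if r ∈ S then 1 else 0

/-- A word with all coefficients one. -/
def oneW (g : Word) : Word := g.map fun q => (q.1, [[]])

theorem coordP_ones : ∀ (S : List ℕ) (r : ℕ),
    coordP (S.map fun s => (s, ([[]] : Poly))) r = if r ∈ S then [[]] else []
  | [], r => rfl
  | a :: S, r => by
    rw [List.map_cons, coordP, coordP_ones S r]
    by_cases h : a = r
    · simp [h]
    · simp [h, Ne.symm h]

/-- A word collecting to ones is an indicator element. -/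
theorem el_of_word {w : Word} {S : List ℕ} (hc : collectsB chevF4 full w = true)
    (h : collect chevF4 w = S.map fun s => (s, [[]])) (v : ℕ → K) :
    wG (QD K) (evw v w) = el (indic S) := by
  rw [wG_coords hc, h]
  refine xprod_congr (QD K) fun r _ => ?_
  show ev v (coordP _ r) = _
  rw [coordP_ones, indic]
  split_ifs <;> simp [ev, ev1]

/-- The representative of the long root class. -/
noncomputable def repZ : ↥(chevF4.group K) := el (indic [28, 30])

/-- The representative of the short root class. -/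
noncomputable def repP : ↥(chevF4.group K) := el (indic [24, 33])

theorem ev_one_at (φ : K →+* K) (t : ℕ → K) :
    env φ t 1 200 = 1 ∧ env φ t 1 201 = 1 := by
  rw [(env_x φ t 1).1, (env_x φ t 1).2, map_one]
  exact ⟨rfl, rfl⟩

theorem oneW_eq {g : Word} (h : g ∈ [P0, T7, C7]) (φ : K →+* K) (t : ℕ → K) (v : ℕ → K) :
    evw v (oneW g) = evw (env φ t 1) g := by
  simp only [List.mem_cons, List.not_mem_nil, or_false] at h
  rcases h with rfl | rfl | rfl <;>
    simp [evw, oneW, P0, T7, C7, ev, ev1, ev_one_at]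

variable (hφ : ∀ t, φ t = t ^ 2 ^ m) (hK : Fintype.card K = 2 ^ (2 * m + 1))
include hφ hK

/-- A word of ones with fixed value. -/
theorem fix_oneW {g : Word} (h : g ∈ [P0, T7, C7]) (v : ℕ → K) :
    (endo φ).σ (wG (QD K) (evw v (oneW g))) = wG (QD K) (evw v (oneW g)) := by
  rw [oneW_eq h φ (fun _ => 0) v]
  simp only [List.mem_cons, List.not_mem_nil, or_false] at h
  rcases h with rfl | rfl | rfl
  · exact fixW_P0 hφ hK _ _
  · exact fixW_T7 hφ hK _ _
  · exact fixW_C7 hφ hK _ _

omit hφ hK in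
theorem repP_word (v : ℕ → K) : wG (QD K) (evw v (oneW P0)) = repP :=
  el_of_word (by decide +kernel) (by decide +kernel) v

omit hφ hK in
theorem repZ_word (v : ℕ → K) : wG (QD K) (evw v (oneW C7)) = repZ :=
  el_of_word (by decide +kernel) (by decide +kernel) v

/-- The word of the second representative moved to the middle of the order. -/
def X4w : Word := rotW wB (rotW wA (rotW wB (oneW P0)))

/-- The word of the first representative moved to the centre. -/
def C3w : Word := rotW wA (rotW wB (rotW wA (oneW C7)))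

omit hφ hK in
theorem C3_eq (v : ℕ → K) : wG (QD K) (evw v C3w) = el (indic [44, 47]) :=
  el_of_word (by decide +kernel) (by decide +kernel) v

omit hφ hK in
theorem X4_eq (v : ℕ → K) : wG (QD K) (evw v X4w) = el (indic [39, 45]) :=
  el_of_word (by decide +kernel) (by decide +kernel) v

/-- The central element in the class of the first representative. -/
theorem cj_C3 : Cj φ repZ (el (indic [44, 47])) := by
  rw [← C3_eq (fun _ => (0 : K)), ← repZ_word (fun _ => (0 : K)), C3w,
    ← nW_wG wA_lt _ (by decide), ← nW_wG wB_lt _ (by decide), ← nW_wG wA_lt _ (by decide)]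
  exact ((Cj.of_conj (σ_nA hφ hK) _).trans (Cj.of_conj (σ_nB hφ hK) _)).trans
    (Cj.of_conj (σ_nA hφ hK) _)

theorem cj_X4 : Cj φ repP (el (indic [39, 45])) := by
  rw [← X4_eq (fun _ => (0 : K)), ← repP_word (fun _ => (0 : K)), X4w,
    ← nW_wG wB_lt _ (by decide), ← nW_wG wA_lt _ (by decide), ← nW_wG wB_lt _ (by decide)]
  exact ((Cj.of_conj (σ_nB hφ hK) _).trans (Cj.of_conj (σ_nA hφ hK) _)).trans
    (Cj.of_conj (σ_nB hφ hK) _)

/-- The conjugator of `cj_mixed`. -/
def gM : Word := rotW wA (rotW wB (oneW P0)) ++ rotW wA (oneW T7)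

/-- The element with all four coordinates is conjugate to the second representative. -/
theorem cj_mixed : Cj φ repP (el (indic [28, 30, 44, 47])) := by
  set v : ℕ → K := fun _ => 0
  set W : Word := oneW T7 ++ X4w ++ (oneW T7).reverse with hW
  set g : ↥(chevF4.group K) := wG (QD K) (evw v gM) with hg
  have hgf : (endo φ).σ g = g := by
    rw [hg, gM, evw_append, wG_append, map_mul, ← nW_wG wA_lt _ (by decide),
      ← nW_wG wB_lt _ (by decide), ← nW_wG wA_lt v (by decide : ltB (oneW T7) = true)]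
    simp only [map_mul, map_inv, σ_nA hφ hK, σ_nB hφ hK,
      fix_oneW hφ hK (show P0 ∈ [P0, T7, C7] by simp) v,
      fix_oneW hφ hK (show T7 ∈ [P0, T7, C7] by simp) v]
  have e : el (indic [28, 30, 44, 47]) =
      g * (nW wA * (nW wB * (wG (QD K) (evw v (oneW T7)) * el (indic [39, 45]) *
        (wG (QD K) (evw v (oneW T7)))⁻¹) * (nW wB)⁻¹) * (nW wA)⁻¹) * g⁻¹ := by
    rw [← el_of_word (w := gM ++ rotW wA (rotW wB W) ++ gM.reverse) (by decide +kernel)
      (by decide +kernel) v, evw_append, evw_append, wG_append, wG_append,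
      ← wG_inv v (g := gM) (by decide), ← nW_wG wA_lt _ (by decide), ← nW_wG wB_lt _ (by decide),
      hW, evw_append, evw_append, wG_append, wG_append,
      ← wG_inv v (g := oneW T7) (by decide), X4_eq]
  rw [e]
  exact ((((cj_X4 hφ hK).trans
    (Cj.of_conj (fix_oneW hφ hK (show T7 ∈ [P0, T7, C7] by simp) v) _)).trans
    (Cj.of_conj (σ_nB hφ hK) _)).trans (Cj.of_conj (σ_nA hφ hK) _)).trans (Cj.of_conj hgf _)

omit hφ hK in
theorem tG_el (c : Fin chevF4.rank → Kˣ) (t : ℕ → K) :
    tG (QD K) c * el t * (tG (QD K) c)⁻¹ = el fun r => (chT c r : K) * t r := by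
  rw [el, el, ← MulAut.conj_apply, xprod, xprod, map_list_prod, List.map_map]
  refine congrArg List.prod (List.map_congr_left fun r hr => ?_)
  exact tG_conj (QD K) c (show r < chevF4.nroots from (mem_full.1 hr).2) _

omit hφ hK in
theorem chT_rows (a b : Kˣ) :
    chT (hc m a b) 24 = b⁻¹ * a ^ 2 ∧ chT (hc m a b) 28 = (a ^ 2 ^ m)⁻¹ * b * a⁻¹ ∧
      chT (hc m a b) 47 = a := by
  obtain ⟨x0, x1, x2, y0, y1, y2, z0, z1, z2, w0, w1, w2⟩ : chevF4.cartan 0 24 = 0 ∧
      chevF4.cartan 0 28 = -1 ∧ chevF4.cartan 0 47 = 0 ∧ chevF4.cartan 1 24 = 0 ∧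
      chevF4.cartan 1 28 = 0 ∧ chevF4.cartan 1 47 = 0 ∧ chevF4.cartan 2 24 = -1 ∧
      chevF4.cartan 2 28 = 1 ∧ chevF4.cartan 2 47 = 0 ∧ chevF4.cartan 3 24 = 2 ∧
      chevF4.cartan 3 28 = -1 ∧ chevF4.cartan 3 47 = 1 := by decide +kernel
  refine ⟨?_, ?_, ?_⟩ <;> rw [chT_eq]
  · rw [x0, y0, z0, w0]
    show (a ^ 2 ^ m) ^ (0 : ℤ) * (b ^ 2 ^ m) ^ (0 : ℤ) * b ^ (-1 : ℤ) * a ^ (2 : ℤ) = _
    simp
  · rw [x1, y1, z1, w1]
    show (a ^ 2 ^ m) ^ (-1 : ℤ) * (b ^ 2 ^ m) ^ (0 : ℤ) * b ^ (1 : ℤ) * a ^ (-1 : ℤ) = _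
    simp
  · rw [x2, y2, z2, w2]
    show (a ^ 2 ^ m) ^ (0 : ℤ) * (b ^ 2 ^ m) ^ (0 : ℤ) * b ^ (0 : ℤ) * a ^ (1 : ℤ) = _
    simp

/-- An element on the first basic subgroup is conjugate to its representative. -/
theorem cj_P {t : ℕ → K} (hf : Fx φ t) (hs : Supp [24, 33] t) (h24 : t 24 ≠ 0) :
    Cj φ (el t) repP := by
  set a : Kˣ := 1
  set b : Kˣ := Units.mk0 _ h24
  have hh := hc_fixed hφ hK a b
  have e := tG_el (hc m a b) t
  set t' : ℕ → K := fun r => (chT (hc m a b) r : K) * t r with ht'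
  have hf' := hf.of_conj hh e
  have hs' : Supp [24, 33] t' := fun r hr hn => by
    show _ * t r = 0
    rw [hs r hr hn, mul_zero]
  have h1 : t' 24 = 1 := by
    show (chT (hc m a b) 24 : K) * t 24 = 1
    rw [(chT_rows a b).1]
    simp [a, b, inv_mul_cancel₀ h24]
  have h2 : t' 33 = 1 := by
    rw [fix_coord (by decide) hs' (by decide +kernel) hf'.fix 33 (by decide),
      show coordP (collect chevF4 (fW [24, 33])) 33 = [[124]] by decide +kernel]
    simp [ev, ev1, env_frob φ t' (0 : K) (show 24 < 100 by omega), h1]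
  refine ⟨_, hh, e.trans (xprod_congr (QD K) fun r hr => ?_)⟩
  show t' r = indic [24, 33] r
  by_cases h : r ∈ [24, 33]
  · rw [indic, if_pos h]
    simp only [List.mem_cons, List.not_mem_nil, or_false] at h
    rcases h with rfl | rfl
    · exact h1
    · exact h2
  · rw [indic, if_neg h, hs' r hr h]

/-- An element on the second basic centre and the centre is conjugate to a representative. -/
theorem cj_Z {t : ℕ → K} (hf : Fx φ t) (hs : Supp [28, 30, 44, 47] t) (h28 : t 28 ≠ 0) :
    Cj φ (el t) repZ ∨ Cj φ (el t) repP := by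
  have key : ∀ a : Kˣ, ∃ t', Cj φ (el t) (el t') ∧ Fx φ t' ∧ Supp [28, 30, 44, 47] t' ∧
      t' 28 = 1 ∧ t' 47 = (a : K) * t 47 := by
    intro a
    set b : Kˣ := (Units.mk0 _ h28)⁻¹ * a ^ 2 ^ m * a
    have hh := hc_fixed hφ hK a b
    have e := tG_el (hc m a b) t
    refine ⟨_, ⟨_, hh, e⟩, hf.of_conj hh e, fun r hr hn => by
      show _ * t r = 0
      rw [hs r hr hn, mul_zero], ?_, ?_⟩
    · show (chT (hc m a b) 28 : K) * t 28 = 1
      rw [(chT_rows a b).2.1, show (a ^ 2 ^ m)⁻¹ * b * a⁻¹ = (Units.mk0 _ h28)⁻¹ by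
        simp only [b, mul_comm, mul_left_comm, mul_assoc, mul_inv_cancel, inv_mul_cancel_left,
          mul_one, one_mul, mul_inv_cancel_left]]
      simp [inv_mul_cancel₀ h28]
    · show (chT (hc m a b) 47 : K) * t 47 = _
      rw [(chT_rows a b).2.2]
  have fin : ∀ t' : ℕ → K, Fx φ t' → Supp [28, 30, 44, 47] t' → t' 28 = 1 →
      t' 30 = 1 ∧ t' 44 = φ (t' 47) ^ Isog.dataF4.lm 47 := by
    intro t' hf' hs' h
    have hfix := fix_coord (by decide) hs' (by decide +kernel) hf'.fix
    constructor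
    · rw [hfix 30 (by decide),
        show coordP (collect chevF4 (fW [28, 30, 44, 47])) 30 = [[128]] by decide +kernel]
      simp [ev, ev1, env_frob φ t' (0 : K) (show 28 < 100 by omega), h]
    · rw [hfix 44 (by decide),
        show coordP (collect chevF4 (fW [28, 30, 44, 47])) 44 = [[147]] by decide +kernel]
      simp [ev, ev1, env_frob φ t' (0 : K) (show 47 < 100 by omega)]
  by_cases h47 : t 47 = 0
  · left
    obtain ⟨t', hcj, hf', hs', h1, h2⟩ := key 1
    obtain ⟨h3, h4⟩ := fin t' hf' hs' h1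
    rw [h47, mul_zero] at h2
    have hl : Isog.dataF4.lm 47 ≠ 0 := by decide +kernel
    rw [h2, map_zero, zero_pow hl] at h4
    refine hcj.trans ?_
    rw [show repZ = el t' from xprod_congr (QD K) fun r hr => ?_]
    · exact Cj.refl _
    · show indic [28, 30] r = t' r
      by_cases h : r ∈ [28, 30, 44, 47]
      · simp only [List.mem_cons, List.not_mem_nil, or_false] at h
        rcases h with rfl | rfl | rfl | rfl <;> simp [indic, h1, h2, h3, h4]
      · rw [hs' r hr h, indic, if_neg fun hm => h (List.mem_append_left [44, 47] hm)]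
  · right
    obtain ⟨t', hcj, hf', hs', h1, h2⟩ := key (Units.mk0 _ h47)⁻¹
    obtain ⟨h3, h4⟩ := fin t' hf' hs' h1
    rw [show ((Units.mk0 _ h47)⁻¹ : Kˣ).val * t 47 = 1 by simp [inv_mul_cancel₀ h47]] at h2
    rw [h2, map_one, one_pow] at h4
    refine hcj.trans (Cj.trans ?_ (cj_mixed hφ hK).symm)
    rw [show el (indic [28, 30, 44, 47]) = el t' from xprod_congr (QD K) fun r hr => ?_]
    · exact Cj.refl _
    · show indic [28, 30, 44, 47] r = t' r
      by_cases h : r ∈ [28, 30, 44, 47]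
      · rw [indic, if_pos h]
        simp only [List.mem_cons, List.not_mem_nil, or_false] at h
        rcases h with rfl | rfl | rfl | rfl <;> simp [h1, h2, h3, h4]
      · rw [hs' r hr h, indic, if_neg h]

end Cfsg.Agent.H37.Twist.F4Inv
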