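import Cfsg.Agent.H37.Twist.F4Inv.Coords

/-!
`²F₄(q)`: fixed conjugators, fixed involutions, and the step that clears a pair of coordinates.
-/
set_option autoImplicit false
set_option maxRecDepth 100000
set_option linter.unusedSectionVars false

namespace Cfsg.Agent.H37.Twist.F4Inv

open Cfsg.Lie Cfsg.Agent.H37 Cfsg.Agent.H37.RootSys Cfsg.Agent.H37.NormalForm
  Cfsg.Agent.H37.Twist Cfsg.Agent.H37.Twist.F4 Cfsg.Agent.H37.Twist.Collect

variable {K : Type*} [Field K] [Fintype K] [CharP K 2] {φ : K →+* K} {m : ℕ}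

/-- Conjugacy under fixed elements. -/
def Cj (φ : K →+* K) (u v : ↥(chevF4.group K)) : Prop :=
  ∃ g, (endo φ).σ g = g ∧ g * u * g⁻¹ = v

theorem Cj.refl (u : ↥(chevF4.group K)) : Cj φ u u := ⟨1, map_one _, by group⟩

theorem Cj.trans {u v w : ↥(chevF4.group K)} : Cj φ u v → Cj φ v w → Cj φ u w := by
  rintro ⟨g, hg, rfl⟩ ⟨h, hh, rfl⟩
  exact ⟨h * g, by rw [map_mul, hh, hg], by group⟩

theorem Cj.symm {u v : ↥(chevF4.group K)} : Cj φ u v → Cj φ v u := by
  rintro ⟨g, hg, rfl⟩
  exact ⟨g⁻¹, by rw [map_inv, hg], by group⟩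

theorem Cj.of_conj {g : ↥(chevF4.group K)} (hg : (endo φ).σ g = g) (u : ↥(chevF4.group K)) :
    Cj φ u (g * u * g⁻¹) := ⟨g, hg, rfl⟩

/-- The coordinates of a fixed element of order at most two. -/
structure Fx (φ : K →+* K) (t : ℕ → K) : Prop where
  sq : el t * el t = 1
  fix : (endo φ).σ (el t) = el t

theorem Fx.of_conj {t t' : ℕ → K} (h : Fx φ t) {g : ↥(chevF4.group K)} (hg : (endo φ).σ g = g)
    (e : g * el t * g⁻¹ = el t') : Fx φ t' := by
  refine ⟨?_, ?_⟩
  · rw [← e, show g * el t * g⁻¹ * (g * el t * g⁻¹) = g * (el t * el t) * g⁻¹ by group, h.sq,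
      mul_one, mul_inv_cancel]
  · rw [← e, map_mul, map_mul, map_inv, hg, h.fix]

/-- The word of the first basic subgroup. -/
def P0 : Word := [(33, [[201]]), (24, [[200]])]

/-- The short element of the second basic subgroup. -/
def T7 : Word := [(25, [[200]]), (27, [[201]]), (30, [[200, 201, 201]])]

/-- The central element of the second basic subgroup. -/
def C7 : Word := [(28, [[200]]), (30, [[201, 201]])]

/-- The first fundamental word. -/
def wA : List ℕ := [0, 3]

/-- The second fundamental word. -/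
def wB : List ℕ := [1, 2, 1, 2]

theorem env_x (φ : K →+* K) (t : ℕ → K) (x : K) : env φ t x 200 = x ∧ env φ t x 201 = φ x := by
  constructor <;> simp [env]

theorem wA_lt : ∀ i ∈ wA, i < 4 := by decide
theorem wB_lt : ∀ i ∈ wB, i < 4 := by decide

/-- A word with fixed values. -/
def FixW (φ : K →+* K) (g : Word) : Prop :=
  ∀ (t : ℕ → K) (x : K), (endo φ).σ (wG (QD K) (evw (env φ t x) g)) = wG (QD K) (evw (env φ t x) g)

variable (hφ : ∀ t, φ t = t ^ 2 ^ m) (hK : Fintype.card K = 2 ^ (2 * m + 1))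
include hφ hK

theorem σ_nA : (endo φ).σ (nW (K := K) wA) = nW wA := by
  obtain ⟨s0, -, -, s3, -⟩ := simple_ok
  have h := le_fixed hφ hK _ (pairN_mem hφ (1 : K))
  rw [map_one] at h
  have e : nW (K := K) wA = nUG (QD K) 33 1 * nUG (QD K) 24 1 := by
    simp [nW, wA, s0, s3]
  rw [e]
  exact h

theorem σ_nB : (endo φ).σ (nW (K := K) wB) = nW wB :=
  le_fixed hφ hK _ (repB_mem (K := K) (m := m))

theorem fixW_P0 : FixW φ P0 := by
  intro t x
  have e : wG (QD K) (evw (env φ t x) P0) = xe 33 (φ x) * xe 24 x := by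
    simp [wG, evw, P0, ev, ev1, env_x]
  rw [e]
  exact pair_fixed (theta hφ hK) (by simp) x

theorem fixW_T7 : FixW φ T7 := by
  intro t x
  have e : wG (QD K) (evw (env φ t x) T7) = pr pc φ x 0 := by
    simp [wG, evw, T7, ev, ev1, env_x, pr, four, pc, xe_zero' (K := K) (show 28 < 48 by omega),
      pow_two, mul_assoc]
  rw [e]
  exact pr_fixed (theta hφ hK) (by simp) x 0

theorem fixW_C7 : FixW φ C7 := by
  intro t x
  have e : wG (QD K) (evw (env φ t x) C7) = pr pc φ 0 x := by
    simp [wG, evw, C7, ev, ev1, env_x, pr, four, pc, xe_zero' (K := K) (show 25 < 48 by omega),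
      xe_zero' (K := K) (show 27 < 48 by omega), pow_two]
  rw [e]
  exact pr_fixed (theta hφ hK) (by simp) 0 x

omit hφ hK in
theorem FixW.rot {g : Word} (h : FixW φ g) {w : List ℕ} (hw : ∀ i ∈ w, i < 4)
    (hn : (endo φ).σ (nW (K := K) w) = nW w) (hl : ltB g = true) : FixW φ (rotW w g) := by
  intro t x
  rw [← nW_wG hw _ hl, map_mul, map_mul, map_inv, hn, h t x]

theorem FixW.rotA {g : Word} (h : FixW φ g) (hl : ltB g = true) : FixW φ (rotW wA g) :=
  h.rot wA_lt (σ_nA hφ hK) hl

theorem FixW.rotB {g : Word} (h : FixW φ g) (hl : ltB g = true) : FixW φ (rotW wB g) :=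
  h.rot wB_lt (σ_nB hφ hK) hl

omit hφ hK

/-- The check behind a step: the word `g` changes the coordinate `k` by `t q · x`, keeps the ones
in `keep`, and afterwards `k'` vanishes by fixedness. -/
def stepB (S : List ℕ) (g : Word) (k q k' : ℕ) (keep S' : List ℕ) : Bool :=
  decide (Lists S) && ltB g && collectsB chevF4 full (g ++ sW S ++ g.reverse) &&
  suppB (collect chevF4 (g ++ sW S ++ g.reverse)) S &&
  decide (coordP (collect chevF4 (g ++ sW S ++ g.reverse)) k = [[q, 200], [k]]) &&
  (keep.all fun r => decide (r ∈ full) &&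
    decide (coordP (collect chevF4 (g ++ sW S ++ g.reverse)) r = [[r]])) &&
  decide (Lists (S.filter fun r => r != k)) &&
  collectsB chevF4 full (fW (S.filter fun r => r != k)) &&
  decide (coordP (collect chevF4 (fW (S.filter fun r => r != k))) k' = []) &&
  decide ((S.filter fun r => r != k).filter (fun r => r != k') = S') && decide (q < 100 ∧ k < 100)

/-- Clearing a pair of coordinates. -/
theorem step {S : List ℕ} {g : Word} {k q k' : ℕ} {keep S' : List ℕ}
    (h : stepB S g k q k' keep S' = true) (hg : FixW φ g) {t : ℕ → K} (hf : Fx φ t)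
    (hs : Supp S t) (hq : t q ≠ 0) :
    ∃ t', Cj φ (el t) (el t') ∧ Fx φ t' ∧ Supp S' t' ∧ ∀ r ∈ keep, t' r = t r := by
  simp only [stepB, Bool.and_eq_true, decide_eq_true_eq, List.all_eq_true] at h
  obtain ⟨⟨⟨⟨⟨⟨⟨⟨⟨⟨hS, hl⟩, hc⟩, hsupp⟩, hk⟩, hkeep⟩, hS1⟩, hc1⟩, hk'⟩, hS'⟩, hq100, hk100⟩ := h
  set c := collect chevF4 (g ++ sW S ++ g.reverse) with hcdef
  set x : K := t k / t q with hx
  set t' : ℕ → K := fun r => ev (env φ t x) (coordP c r) with ht'
  have e := conj_coord (φ := φ) hS hs hl hc x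
  have hgx := hg t x
  have hf' : Fx φ t' := hf.of_conj hgx e
  have hs1 : Supp (S.filter fun r => r != k) t' := by
    refine (supp_coord hsupp _).filter fun r _ hr => ?_
    have hrk : r = k := by simpa using hr
    subst hrk
    show ev (env φ t x) (coordP c r) = 0
    rw [hk]
    simp only [ev, ev1, List.map_cons, List.map_nil, List.prod_cons, List.prod_nil,
      List.sum_cons, List.sum_nil, mul_one, add_zero]
    rw [env_var φ t x hq100, env_var φ t x hk100, (env_x φ t x).1, hx, mul_div_cancel₀ _ hq,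
      CharTwo.add_self_eq_zero]
  refine ⟨t', ⟨_, hgx, e⟩, hf', ?_, fun r hr => ?_⟩
  · rw [← hS']
    refine hs1.filter fun r hr hr' => ?_
    have hrk : r = k' := by simpa using hr'
    subst hrk
    rw [List.mem_filter] at hr
    have hfull : r ∈ full := by
      rw [← hS, List.mem_filter] at hr
      exact hr.1.1
    rw [fix_coord hS1 hs1 hc1 hf'.fix r hfull, hk']
    rfl
  · obtain ⟨hr1, hr2⟩ := hkeep r hr
    show ev (env φ t x) (coordP c r) = t r
    rw [hr2]
    simp [ev, ev1, env_var φ t x (show r < 100 by have := (mem_full.1 hr1).2; omega)]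

end Cfsg.Agent.H37.Twist.F4Inv
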