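import Cfsg.Agent.H37.Twist.F4Inv.Count
import Cfsg.Agent.H40.Tits.Main

/-!
The involutions of the Tits group: all involutions of `²F₄(2)` lie in it, and their two classes do
not split.
-/
set_option autoImplicit false
set_option maxRecDepth 100000
set_option linter.unusedSectionVars false
set_option maxHeartbeats 300000

namespace Cfsg.Agent.H37.Twist.F4Inv

open Cfsg.Lie Cfsg.Agent.H37 Cfsg.Agent.H37.RootSys Cfsg.Agent.H37.NormalForm
  Cfsg.Agent.H37.Twist Cfsg.Agent.H37.Twist.F4 Cfsg.Agent.H37.Twist.Collect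
open Cfsg.Agent.H56.TwAut (lift lift_mul lift_inv lift_iso lift_injective)
open Cfsg.Agent.H40 (Tits.GT)

/-- Two classes of a group, neither of which splits in a subgroup of index two containing both. -/
theorem ncard_index_two {G : Type*} [Group G] {T : Subgroup G} (hidx : T.index = 2) {x y : G}
    (hx : orderOf x = 2) (hy : orderOf y = 2) (hxT : x ∈ T) (hyT : y ∈ T) (hnc : ¬ IsConj x y)
    (hall : ∀ g : G, orderOf g = 2 → IsConj g x ∨ IsConj g y)
    (cx : ∃ c, c * x * c⁻¹ = x ∧ c ∉ T) (cy : ∃ c, c * y * c⁻¹ = y ∧ c ∉ T) :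
    (ConjClasses.mk '' {g : ↥T | orderOf g = 2}).ncard = 2 := by
  have descend : ∀ {z : G} (hz : z ∈ T), (∃ c, c * z * c⁻¹ = z ∧ c ∉ T) →
      ∀ g : ↥T, IsConj (g : G) z → IsConj g ⟨z, hz⟩ := by
    rintro z hz ⟨c, hc, hcT⟩ g hg
    obtain ⟨d, hd⟩ := isConj_iff.1 hg
    by_cases hdT : d ∈ T
    · exact isConj_iff.2 ⟨⟨d, hdT⟩, Subtype.ext hd⟩
    · refine isConj_iff.2 ⟨⟨c * d, (Subgroup.mul_mem_iff_of_index_two hidx).2
        ⟨fun h => absurd h hcT, fun h => absurd h hdT⟩⟩, Subtype.ext ?_⟩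
      show c * d * (g : G) * (c * d)⁻¹ = z
      rw [show c * d * (g : G) * (c * d)⁻¹ = c * (d * (g : G) * d⁻¹) * c⁻¹ by group, hd, hc]
  have hset : ConjClasses.mk '' {g : ↥T | orderOf g = 2} =
      {ConjClasses.mk ⟨x, hxT⟩, ConjClasses.mk ⟨y, hyT⟩} := by
    ext C
    constructor
    · rintro ⟨g, hg, rfl⟩
      exact (hall g (by rw [Subgroup.orderOf_coe]; exact hg)).imp
        (fun h => ConjClasses.mk_eq_mk_iff_isConj.2 (descend hxT cx g h))
        (fun h => ConjClasses.mk_eq_mk_iff_isConj.2 (descend hyT cy g h))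
    · rintro (rfl | rfl)
      · exact ⟨_, (Subgroup.orderOf_mk x hxT).trans hx, rfl⟩
      · exact ⟨_, (Subgroup.orderOf_mk y hyT).trans hy, rfl⟩
  rw [hset, Set.ncard_pair fun e => hnc ?_]
  exact MonoidHom.map_isConj T.subtype (ConjClasses.mk_eq_mk_iff_isConj.1 e)

theorem conj_X1t {K : Type*} [Field K] [Fintype K] [CharP K 2] (v : ℕ → K) :
    nW wA * wG (QD K) (evw v (oneW T7)) * (nW wA)⁻¹ * repP *
      (nW wA * wG (QD K) (evw v (oneW T7)) * (nW wA)⁻¹)⁻¹ = repP := by
  rw [nW_wG wA_lt v (by decide), ← repP_word v,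
    wG_inv v (g := rotW wA (oneW T7)) (by decide), ← wG_append, ← evw_append, ← wG_append,
    ← evw_append, el_of_word (S := [24, 33]) (by decide +kernel) (by decide +kernel) v,
    repP_word]
  rfl

/-- The model of `²F₄(2)`. -/
noncomputable abbrev M2 := model (K := ZMod 2) (φ := RingHom.id (ZMod 2)) (m := 0) H40.Tits.phi_id
  H40.Tits.card_two

theorem map_comm {Γ Δ : Type*} [Group Γ] [Group Δ] {S : Subgroup Γ} {T : Subgroup Δ}
    (e : ↥S ≃* ↥T) (b : ↥S) : e b ∈ commutator ↥T ↔ b ∈ commutator ↥S := by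
  rw [← H40.Tits.transport e]
  exact ⟨fun ⟨x, hx, h⟩ => e.injective h ▸ hx, fun h => ⟨b, h, rfl⟩⟩

theorem map_index {Γ Δ : Type*} [Group Γ] [Group Δ] {S : Subgroup Γ} {T : Subgroup Δ}
    (e : ↥S ≃* ↥T) : (commutator ↥T).index = (commutator ↥S).index := by
  rw [← H40.Tits.transport e]
  exact Subgroup.index_map_equiv _ e

theorem notMem_bel : M2.iso (H40.Tits.bel : H40.Tits.GT) ∉ commutator ↥M2.T := fun h =>
  H40.Tits.bel_notMem ((map_comm M2.iso _).1 h)

theorem mem_of_even {w : List ℕ} (h : H40.Tits.goodW w = true) (hd : H40.Tits.dpar w = 0) :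
    M2.iso (H40.Tits.elW w h : H40.Tits.GT) ∈ commutator ↥M2.T := by
  refine (map_comm M2.iso _).2 ?_
  rw [H40.Tits.commutator_eq_ker, MonoidHom.mem_ker, H40.Tits.trV_eq, H40.Tits.chi_elW, hd]
  rfl

theorem wG_ones (v : ℕ → ZMod 2) : ∀ w : List ℕ,
    wG (QD (ZMod 2)) (evw v (w.map fun r => (r, ([[]] : Poly)))) = H40.Tits.gW w
  | [] => rfl
  | a :: w => by
    rw [H40.Tits.gW_cons, ← wG_ones v w]
    simp [wG, evw, ev, ev1]
    rfl

theorem gens_word : oneW T7 = ([25, 27, 30] : List ℕ).map (fun r => (r, ([[]] : Poly))) ∧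
    oneW C7 = ([28, 30] : List ℕ).map (fun r => (r, ([[]] : Poly))) ∧
    oneW P0 = ([33, 24] : List ℕ).map (fun r => (r, ([[]] : Poly))) := by decide

theorem lift_bel : lift M2 (M2.iso (H40.Tits.bel : H40.Tits.GT)) =
    wG (QD (ZMod 2)) (evw (fun _ => 0) (oneW T7)) := by
  rw [gens_word.1, wG_ones]
  exact lift_iso M2 _

theorem repZ_mem : ∀ z : ↥M2.T, lift M2 z = repZ → z ∈ commutator ↥M2.T := by
  intro z hz
  obtain ⟨hg, hd⟩ : H40.Tits.goodW [28, 30] = true ∧ H40.Tits.dpar [28, 30] = 0 := by decide +kernel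
  refine (?_ : z = M2.iso (H40.Tits.elW [28, 30] hg : H40.Tits.GT)) ▸ mem_of_even hg hd
  refine lift_injective M2 (hz.trans ?_)
  rw [← repZ_word (fun _ => (0 : ZMod 2)), gens_word.2.1, wG_ones]
  rw [lift_iso M2]
  rfl

theorem repP_mem : ∀ z : ↥M2.T, lift M2 z = repP → z ∈ commutator ↥M2.T := by
  intro z hz
  obtain ⟨hg, hd⟩ : H40.Tits.goodW [33, 24] = true ∧ H40.Tits.dpar [33, 24] = 0 := by decide +kernel
  refine (?_ : z = M2.iso (H40.Tits.elW [33, 24] hg : H40.Tits.GT)) ▸ mem_of_even hg hd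
  refine lift_injective M2 (hz.trans ?_)
  rw [← repP_word (fun _ => (0 : ZMod 2)), gens_word.2.2, wG_ones]
  rw [lift_iso M2]
  rfl

theorem mem_of_conj {G : Type*} [Group G] {x y : G} (h : IsConj x y) (hy : y ∈ commutator G) :
    x ∈ commutator G := by
  obtain ⟨c, hc⟩ := isConj_iff.1 h
  have e : x = c⁻¹ * y * c⁻¹⁻¹ := by rw [← hc]; group
  rw [e]
  exact (inferInstance : (commutator G).Normal).conj_mem y hy c⁻¹

/-- All involutions of `²F₄(2)` lie in the derived subgroup. -/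
theorem involution_mem {g : ↥M2.T} (hg : orderOf g = 2) : g ∈ commutator ↥M2.T := by
  have hφ := H40.Tits.phi_id
  have hK := H40.Tits.card_two
  rcases involution_conj hφ hK hg with h | h
  · refine mem_of_conj (h.trans (isConj_of_cj hφ hK (y := M2.iso ⟨repZ, repZ_fix hφ hK⟩) ?_))
      (repZ_mem _ (lift_iso M2 _))
    rw [lift_invZ, lift_iso]
    exact (cj_C3 hφ hK).symm
  · refine mem_of_conj (h.trans (isConj_of_cj hφ hK (y := M2.iso ⟨repP, repP_fix hφ hK⟩) ?_))
      (repP_mem _ (lift_iso M2 _))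
    rw [lift_invP, lift_iso]
    exact (cj_X4 hφ hK).symm

/-- The two classes do not split. -/
theorem ncard_tits :
    (ConjClasses.mk '' {g : ↥(commutator ↥M2.T) | orderOf g = 2}).ncard = 2 := by
  have hφ := H40.Tits.phi_id
  have hK := H40.Tits.card_two
  set bel := M2.iso (H40.Tits.bel : H40.Tits.GT) with hbel
  set v : ℕ → ZMod 2 := fun _ => 0
  set y : ↥M2.T := M2.iso ⟨repP, repP_fix hφ hK⟩ with hy
  set n : ↥M2.T := M2.iso ⟨nW wA, σ_nA hφ hK⟩ with hn
  have hPy : IsConj (invP hφ hK) y := by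
    refine isConj_of_cj hφ hK ?_
    rw [lift_invP, hy, lift_iso]
    exact (cj_X4 hφ hK).symm
  have hidx : (commutator ↥M2.T).index = 2 :=
    (map_index M2.iso).trans H40.Tits.index_commutator
  refine ncard_index_two hidx (x := invZ hφ hK) (y := y) (order_invZ hφ hK) ?_
    (involution_mem (order_invZ hφ hK)) (repP_mem _ (lift_iso M2 _))
    (fun h => invZ_not_conj hφ hK (h.trans hPy.symm))
    (fun g hg => (involution_conj hφ hK hg).imp id fun h => h.trans hPy) ?_ ?_
  · exact order_two hφ hK (lift_iso M2 _) repP_sq (indic_ne_one (r := 24) (by simp) (by decide))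
  · refine ⟨bel, lift_injective M2 ?_, notMem_bel⟩
    rw [lift_mul, lift_mul, lift_inv, hbel, lift_bel, lift_invZ, ← C3_eq v,
      wG_inv v (g := oneW T7) (by decide), ← wG_append, ← evw_append, ← wG_append, ← evw_append,
      el_of_word (S := [44, 47]) (by decide +kernel) (by decide +kernel) v]
    exact (C3_eq v).symm
  · refine ⟨n * bel * n⁻¹, lift_injective M2 ?_, fun h => notMem_bel ?_⟩
    · rw [lift_mul, lift_mul, lift_inv, lift_mul, lift_mul, lift_inv, hbel, lift_bel, hn,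
        lift_iso M2, hy, lift_iso M2]
      exact conj_X1t v
    · have := (inferInstance : (commutator ↥M2.T).Normal).conj_mem _ h n⁻¹
      rwa [show n⁻¹ * (n * bel * n⁻¹) * n⁻¹⁻¹ = bel by group] at this

end Cfsg.Agent.H37.Twist.F4Inv

namespace Cfsg.Agent.H37.Twist.F4Inv

open Cfsg.Lie

theorem M2_T : M2.T = twistedF4 (ZMod 2) 1 := by
  rw [show M2.T = twistedF4 (ZMod 2) (2 ^ 0) from rfl, pow_zero]

/-- The Tits group has two classes of involutions. -/
theorem ncard_TitsGroup :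
    (ConjClasses.mk '' {g : TitsGroup | orderOf g = 2}).ncard = 2 := by
  have h : ∀ S : Subgroup (GL chevF4.Idx (ZMod 2)), S = M2.T →
      (ConjClasses.mk '' {g : ↥(commutator ↥S) | orderOf g = 2}).ncard = 2 := by
    rintro S rfl
    exact ncard_tits
  exact h _ M2_T.symm

/-- Every involution of `²F₄(2)` lies in the Tits group. -/
theorem involution_mem_Tits (g : ↥(twistedF4 (ZMod 2) 1)) (hg : orderOf g = 2) :
    g ∈ commutator ↥(twistedF4 (ZMod 2) 1) := by
  have h : ∀ S : Subgroup (GL chevF4.Idx (ZMod 2)), S = M2.T →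
      ∀ g : ↥S, orderOf g = 2 → g ∈ commutator ↥S := by
    rintro S rfl g hg
    exact involution_mem hg
  exact h _ M2_T.symm g hg

end Cfsg.Agent.H37.Twist.F4Inv
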